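import Cfsg.Agent.H539.Lim.Defs
import Mathlib
set_option linter.all false

-- part: H223/Lim/Basic
section
/-!
# S5242, pieces A1 and A2 (helper223)

`dd_dd`, `dd_smul`, `van_two1`, `van_two2`, `van_two2'`, `van_two3`, and the truncation `tr`.
-/

set_option autoImplicit false

namespace Cfsg.Agent.H223.Lim

open MulAction Cfsg.Agent.H539.Lim

universe u v w

variable {G : Type u} [Group G] {Ω : Type v} [MulAction G Ω] {D : Type w} [AddCommGroup D]
  [DistribMulAction G D]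

/-! ## A1 -/

omit [DistribMulAction G D] in
theorem dd_eq {Ω : Type v} {D : Type w} [AddCommGroup D] {k : ℕ} (c : (Fin k → Ω) → D) (x : Fin (k + 1) → Ω) :
    dd c x = ∑ i : Fin (k + 1), ((-1 : ℤ) ^ (i : ℕ)) • c (fun j => x (i.succAbove j)) := rfl

theorem dd_dd {Ω : Type v} {D : Type w} [AddCommGroup D] {k : ℕ} (c : (Fin k → Ω) → D)
    (x : Fin (k + 2) → Ω) : dd (dd c) x = 0 := by
  have h1 : dd (dd c) x = ∑ p : Fin (k + 2) × Fin (k + 1),
      ((-1 : ℤ) ^ ((p.1 : ℕ) + (p.2 : ℕ))) • c (fun j => x (p.1.succAbove (p.2.succAbove j))) := by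
    rw [Fintype.sum_prod_type, dd_eq]
    refine Finset.sum_congr rfl fun i _ => ?_
    rw [dd_eq, Finset.smul_sum]
    refine Finset.sum_congr rfl fun j _ => ?_
    rw [smul_smul, pow_add]
  rw [h1]
  refine Finset.sum_involution (fun p _ => (p.1.succAbove p.2, p.2.predAbove p.1)) ?_ ?_ ?_ ?_
  · rintro ⟨i, j⟩ -
    have h2 : (fun l => x ((i.succAbove j).succAbove ((j.predAbove i).succAbove l))) =
        fun l => x (i.succAbove (j.succAbove l)) := by
      funext l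
      rw [Fin.succAbove_succAbove_succAbove_predAbove]
    have h3 : ((-1 : ℤ) ^ (((i.succAbove j : Fin (k + 2)) : ℕ) + ((j.predAbove i : Fin (k + 1)) : ℕ))) =
        -((-1 : ℤ) ^ ((i : ℕ) + (j : ℕ))) := by
      rcases Fin.lt_or_ge j.castSucc i with h | h
      · rw [Fin.succAbove_of_castSucc_lt _ _ h, Fin.predAbove_of_castSucc_lt _ _ h]
        have h0 : (j : ℕ) < i := h
        simp only [Fin.val_castSucc, Fin.val_pred]
        obtain ⟨m, hm⟩ : ∃ m, (i : ℕ) = m + 1 := ⟨(i : ℕ) - 1, by omega⟩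
        rw [hm, Nat.add_sub_cancel]
        ring
      · rw [Fin.succAbove_of_le_castSucc _ _ h, Fin.predAbove_of_le_castSucc _ _ h]
        simp only [Fin.val_succ, Fin.coe_castPred]
        ring
    change ((-1 : ℤ) ^ ((i : ℕ) + (j : ℕ))) • c (fun l => x (i.succAbove (j.succAbove l))) +
      ((-1 : ℤ) ^ (((i.succAbove j : Fin (k + 2)) : ℕ) + ((j.predAbove i : Fin (k + 1)) : ℕ))) •
        c (fun l => x ((i.succAbove j).succAbove ((j.predAbove i).succAbove l))) = 0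
    rw [h2, h3, neg_smul, add_neg_cancel]
  · rintro ⟨i, j⟩ - - h
    exact Fin.succAbove_ne i j (congrArg Prod.fst h)
  · rintro ⟨i, j⟩ -
    exact Finset.mem_univ _
  · rintro ⟨i, j⟩ -
    apply Prod.ext
    · exact Fin.succAbove_succAbove_predAbove i j
    · exact Fin.predAbove_predAbove_succAbove i j

theorem dd_smul {k : ℕ} (c : (Fin k → Ω) → D) (hc : ∀ (g : G) (x : Fin k → Ω), c (g • x) = g • c x)
    (g : G) (x : Fin (k + 1) → Ω) : dd c (g • x) = g • dd c x := by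
  rw [dd_eq, dd_eq, Finset.smul_sum]
  refine Finset.sum_congr rfl fun i _ => ?_
  have h1 : (fun j => (g • x) (i.succAbove j)) = g • fun j => x (i.succAbove j) := rfl
  rw [h1, hc, smul_comm]

section Lin

omit [MulAction G Ω] [DistribMulAction G D]

theorem dd_congr {k : ℕ} {c c' : (Fin k → Ω) → D} {x : Fin (k + 1) → Ω}
    (h : ∀ i : Fin (k + 1), c (fun j => x (i.succAbove j)) = c' (fun j => x (i.succAbove j))) :
    dd c x = dd c' x := by
  rw [dd_eq, dd_eq]
  exact Finset.sum_congr rfl fun i _ => by rw [h i]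

theorem dd_eq_zero {k : ℕ} {c : (Fin k → Ω) → D} {x : Fin (k + 1) → Ω}
    (h : ∀ i : Fin (k + 1), c (fun j => x (i.succAbove j)) = 0) : dd c x = 0 := by
  rw [dd_eq]
  exact Finset.sum_eq_zero fun i _ => by rw [h i, smul_zero]

theorem dd_add {k : ℕ} (c c' : (Fin k → Ω) → D) (x : Fin (k + 1) → Ω) :
    dd (fun y => c y + c' y) x = dd c x + dd c' x := by
  rw [dd_eq, dd_eq, dd_eq, ← Finset.sum_add_distrib]
  exact Finset.sum_congr rfl fun i _ => by rw [smul_add]

theorem dd_sub {k : ℕ} (c c' : (Fin k → Ω) → D) (x : Fin (k + 1) → Ω) :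
    dd (fun y => c y - c' y) x = dd c x - dd c' x := by
  rw [dd_eq, dd_eq, dd_eq, ← Finset.sum_sub_distrib]
  exact Finset.sum_congr rfl fun i _ => by rw [smul_sub]

theorem dd_neg {k : ℕ} (c : (Fin k → Ω) → D) (x : Fin (k + 1) → Ω) :
    dd (fun y => -c y) x = -dd c x := by
  rw [dd_eq, dd_eq, ← Finset.sum_neg_distrib]
  exact Finset.sum_congr rfl fun i _ => by rw [smul_neg]

end Lin

/-! ## stabilizers and truncation -/

theorem st_face_le {k : ℕ} (x : Fin (k + 1) → Ω) (i : Fin (k + 1)) :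
    st G x ≤ st G (fun j => x (i.succAbove j)) := Coef.st_succAbove_le G x i

theorem st_smul {k : ℕ} (g : G) (x : Fin k → Ω) : st G (g • x) = cj g (st G x) :=
  MulAction.stabilizer_smul_eq_stabilizer_map_conj g x

theorem cj_mem_iff {V : Set (Subgroup G)} (hV : IsInv V) (g : G) (P : Subgroup G) : cj g P ∈ V ↔ P ∈ V := by
  constructor
  · intro h
    have h1 := hV g⁻¹ _ h
    have h2 : cj g⁻¹ (cj g P) = P := by
      ext u
      simp only [Subgroup.mem_map, MulEquiv.coe_toMonoidHom, MulAut.conj_apply, inv_inv]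
      constructor
      · rintro ⟨_, ⟨w, hw, rfl⟩, rfl⟩
        have : g⁻¹ * (g * w * g⁻¹) * g = w := by group
        rw [this]; exact hw
      · intro hu
        exact ⟨_, ⟨u, hu, rfl⟩, by group⟩
    rwa [h2] at h1
  · exact hV g P

theorem st_smul_mem_iff {V : Set (Subgroup G)} (hV : IsInv V) {k : ℕ} (g : G) (x : Fin k → Ω) :
    st G (g • x) ∈ V ↔ st G x ∈ V := by
  rw [st_smul, cj_mem_iff hV]

theorem isInv_inter {V U : Set (Subgroup G)} (hV : IsInv V) (hU : IsInv U) : IsInv (V ∩ U) :=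
  fun g P h => ⟨hV g P h.1, hU g P h.2⟩

theorem isInv_diff {V U : Set (Subgroup G)} (hV : IsInv V) (hU : IsInv U) : IsInv (V \ U) :=
  fun g P h => ⟨hV g P h.1, fun h' => h.2 ((cj_mem_iff hU g P).1 h')⟩

open Classical in
/-- truncation of a function to the tuples with stabilizer in `V` -/
noncomputable def tr (V : Set (Subgroup G)) {k : ℕ} (f : (Fin k → Ω) → D) (x : Fin k → Ω) : D :=
  if st G x ∈ V then f x else 0

omit [DistribMulAction G D] in
theorem tr_of_mem {V : Set (Subgroup G)} {k : ℕ} (f : (Fin k → Ω) → D) {x : Fin k → Ω} (h : st G x ∈ V) :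
    tr V f x = f x := if_pos h

omit [DistribMulAction G D] in
theorem tr_of_not_mem {V : Set (Subgroup G)} {k : ℕ} (f : (Fin k → Ω) → D) {x : Fin k → Ω}
    (h : st G x ∉ V) : tr V f x = 0 := if_neg h

theorem tr_smul {V : Set (Subgroup G)} (hV : IsInv V) {k : ℕ} {f : (Fin k → Ω) → D}
    (hf : ∀ (g : G) (x : Fin k → Ω), f (g • x) = g • f x) (g : G) (x : Fin k → Ω) :
    tr V f (g • x) = g • tr V f x := by
  by_cases h : st G x ∈ V
  · rw [tr_of_mem f h, tr_of_mem f ((st_smul_mem_iff hV g x).2 h), hf]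
  · rw [tr_of_not_mem f h, tr_of_not_mem f (fun h' => h ((st_smul_mem_iff hV g x).1 h')), smul_zero]

/-- the truncation of an equivariant function is a cochain -/
theorem isCoch_tr {V : Set (Subgroup G)} (hV : IsInv V) {k : ℕ} {f : (Fin k → Ω) → D}
    (hf : ∀ (g : G) (x : Fin k → Ω), f (g • x) = g • f x) : IsCoch V (tr V f) :=
  ⟨fun g x => tr_smul hV hf g x, fun _ h => tr_of_not_mem f h⟩

theorem isCoch_mono {V V' : Set (Subgroup G)} (h : V ⊆ V') {k : ℕ} {c : (Fin k → Ω) → D} (hc : IsCoch V c) :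
    IsCoch V' c := ⟨hc.smul, fun x hx => hc.supp x fun h' => hx (h h')⟩

theorem isCoch_add {V : Set (Subgroup G)} {k : ℕ} {c c' : (Fin k → Ω) → D} (hc : IsCoch V c)
    (hc' : IsCoch V c') : IsCoch V (fun x => c x + c' x) :=
  ⟨fun g x => by rw [hc.smul, hc'.smul, smul_add], fun x hx => by rw [hc.supp x hx, hc'.supp x hx, add_zero]⟩

theorem isCoch_sub {V : Set (Subgroup G)} {k : ℕ} {c c' : (Fin k → Ω) → D} (hc : IsCoch V c)
    (hc' : IsCoch V c') : IsCoch V (fun x => c x - c' x) :=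
  ⟨fun g x => by rw [hc.smul, hc'.smul, smul_sub], fun x hx => by rw [hc.supp x hx, hc'.supp x hx, sub_zero]⟩

omit [DistribMulAction G D] in
/-- a coboundary of a function supported on the convex set `V` vanishes outside of `V` at the faces of the tuples with
stabilizer in `V` -/
theorem tr_dd_face {V : Set (Subgroup G)} (hV : V.OrdConnected) {k : ℕ} {b : (Fin k → Ω) → D}
    (hb : ∀ x, st G x ∉ V → b x = 0) {x : Fin (k + 2) → Ω} (hx : st G x ∈ V) (i : Fin (k + 2)) :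
    tr V (dd b) (fun j => x (i.succAbove j)) = dd b (fun j => x (i.succAbove j)) := by
  by_cases h : st G (fun j => x (i.succAbove j)) ∈ V
  · exact tr_of_mem _ h
  · rw [tr_of_not_mem _ h]
    symm
    apply dd_eq_zero
    intro l
    apply hb
    intro h'
    exact h (hV.out hx h' ⟨st_face_le x i, st_face_le (fun j => x (i.succAbove j)) l⟩)

omit [DistribMulAction G D] in
theorem dd_tr_dd {V : Set (Subgroup G)} (hV : V.OrdConnected) {k : ℕ} {b : (Fin k → Ω) → D}
    (hb : ∀ x, st G x ∉ V → b x = 0) {x : Fin (k + 2) → Ω} (hx : st G x ∈ V) :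
    dd (tr V (dd b)) x = 0 := by
  rw [dd_congr (fun i => tr_dd_face hV hb hx i)]
  exact dd_dd b x

omit [DistribMulAction G D] in
/-- restriction to an upper set does not change the coboundary on the upper set -/
theorem dd_tr_inter {V U : Set (Subgroup G)} (hU : IsUpperSet U) {k : ℕ} {c : (Fin k → Ω) → D}
    (hc : ∀ x, st G x ∉ V → c x = 0) {x : Fin (k + 1) → Ω} (hx : st G x ∈ U) :
    dd (tr (V ∩ U) c) x = dd c x := by
  apply dd_congr
  intro i
  have h1 : st G (fun j => x (i.succAbove j)) ∈ U := hU (st_face_le x i) hx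
  by_cases h : st G (fun j => x (i.succAbove j)) ∈ V
  · exact tr_of_mem (V := V ∩ U) _ ⟨h, h1⟩
  · rw [tr_of_not_mem _ (fun h' => h h'.1), hc _ h]

omit [DistribMulAction G D] in
/-- a function vanishing on the upper set `U` has vanishing coboundary on `U` -/
theorem dd_zero_of_upper {U : Set (Subgroup G)} (hU : IsUpperSet U) {k : ℕ} {c : (Fin k → Ω) → D}
    (hc : ∀ x, st G x ∈ U → c x = 0) {x : Fin (k + 1) → Ω} (hx : st G x ∈ U) : dd c x = 0 :=
  dd_eq_zero fun i => hc _ (hU (st_face_le x i) hx)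

/-! ## A2: two out of three -/

theorem van_two1 {V U : Set (Subgroup G)} (hV : V.OrdConnected) (hVi : IsInv V) (hU : IsUpperSet U)
    (hUi : IsInv U) {n : ℕ} (h1 : Van G Ω D (V \ U) n) (h2 : Van G Ω D (V ∩ U) n) : Van G Ω D V n := by
  cases n with
  | zero =>
    intro c hc hcc
    have hc2 : IsCoch (V ∩ U) (tr (V ∩ U) c) := isCoch_tr (isInv_inter hVi hUi) hc.smul
    have h3 := h2 _ hc2 (fun x hx => by rw [dd_tr_inter hU hc.supp hx.2]; exact hcc x hx.1)
    have hc1 : IsCoch (V \ U) c := by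
      refine ⟨hc.smul, fun x hx => ?_⟩
      by_cases hxV : st G x ∈ V
      · have hxU : st G x ∈ U := by
          by_contra h
          exact hx ⟨hxV, h⟩
        have := h3 x
        rwa [tr_of_mem (V := V ∩ U) _ ⟨hxV, hxU⟩] at this
      · exact hc.supp x hxV
    exact h1 c hc1 (fun x hx => hcc x hx.1)
  | succ n =>
    intro c hc hcc
    have hc2 : IsCoch (V ∩ U) (tr (V ∩ U) c) := isCoch_tr (isInv_inter hVi hUi) hc.smul
    obtain ⟨b2, hb2, hb2c⟩ := h2 _ hc2 (fun x hx => by rw [dd_tr_inter hU hc.supp hx.2]; exact hcc x hx.1)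
    have hb2V : IsCoch V b2 := isCoch_mono Set.inter_subset_left hb2
    have hcoch1 : IsCoch V (fun x => c x - tr V (dd b2) x) :=
      isCoch_sub hc (isCoch_tr hVi (fun g x => dd_smul b2 hb2.smul g x))
    have hc1 : IsCoch (V \ U) (fun x => c x - tr V (dd b2) x) := by
      refine ⟨hcoch1.smul, fun x hx => ?_⟩
      by_cases hxV : st G x ∈ V
      · have hxU : st G x ∈ U := by
          by_contra h
          exact hx ⟨hxV, h⟩
        have h4 := hb2c x ⟨hxV, hxU⟩
        rw [tr_of_mem (V := V ∩ U) _ ⟨hxV, hxU⟩] at h4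
        change c x - tr V (dd b2) x = 0
        rw [tr_of_mem _ hxV, h4, sub_self]
      · exact hcoch1.supp x hxV
    obtain ⟨b1, hb1, hb1c⟩ := h1 _ hc1 (fun x hx => by
      rw [dd_sub, hcc x hx.1, dd_tr_dd hV hb2V.supp hx.1, sub_zero])
    refine ⟨fun x => b1 x + b2 x, isCoch_add (isCoch_mono Set.sdiff_subset hb1) hb2V, fun x hx => ?_⟩
    rw [dd_add]
    by_cases hxU : st G x ∈ U
    · have h4 := hb2c x ⟨hx, hxU⟩
      rw [tr_of_mem (V := V ∩ U) _ ⟨hx, hxU⟩] at h4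
      rw [dd_zero_of_upper hU (fun y hy => hb1.supp y fun h => h.2 hy) hxU, zero_add, h4]
    · have h4 := hb1c x ⟨hx, hxU⟩
      change c x - tr V (dd b2) x = dd b1 x at h4
      rw [tr_of_mem _ hx] at h4
      rw [← h4, sub_add_cancel]

theorem van_two2 {V U : Set (Subgroup G)} (hV : V.OrdConnected) (hVi : IsInv V) (hU : IsUpperSet U)
    (hUi : IsInv U) {n : ℕ} (h1 : Van G Ω D V (n + 1)) (h2 : Van G Ω D (V ∩ U) n) :
    Van G Ω D (V \ U) (n + 1) := by
  intro c hc hcc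
  have hcV : IsCoch V c := isCoch_mono Set.sdiff_subset hc
  have hczero : ∀ x, st G x ∈ U → c x = 0 := fun x hx => hc.supp x fun h => h.2 hx
  obtain ⟨b, hb, hbc⟩ := h1 c hcV (fun x hx => by
    by_cases hxU : st G x ∈ U
    · exact dd_zero_of_upper hU hczero hxU
    · exact hcc x ⟨hx, hxU⟩)
  have hb2 : IsCoch (V ∩ U) (tr (V ∩ U) b) := isCoch_tr (isInv_inter hVi hUi) hb.smul
  have hb2c : IsCoc (G := G) (V ∩ U) (tr (V ∩ U) b) := fun x hx => by
    rw [dd_tr_inter hU hb.supp hx.2, ← hbc x hx.1]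
    exact hczero x hx.2
  cases n with
  | zero =>
    have h3 := h2 _ hb2 hb2c
    refine ⟨b, ⟨hb.smul, fun x hx => ?_⟩, fun x hx => hbc x hx.1⟩
    by_cases hxV : st G x ∈ V
    · have hxU : st G x ∈ U := by
        by_contra h
        exact hx ⟨hxV, h⟩
      have := h3 x
      rwa [tr_of_mem (V := V ∩ U) _ ⟨hxV, hxU⟩] at this
    · exact hb.supp x hxV
  | succ n =>
    obtain ⟨a, ha, hac⟩ := h2 _ hb2 hb2c
    have haV : IsCoch V a := isCoch_mono Set.inter_subset_left ha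
    have hcoch : IsCoch V (fun x => b x - tr V (dd a) x) :=
      isCoch_sub hb (isCoch_tr hVi (fun g x => dd_smul a ha.smul g x))
    refine ⟨fun x => b x - tr V (dd a) x, ⟨hcoch.smul, fun x hx => ?_⟩, fun x hx => ?_⟩
    · by_cases hxV : st G x ∈ V
      · have hxU : st G x ∈ U := by
          by_contra h
          exact hx ⟨hxV, h⟩
        have h4 := hac x ⟨hxV, hxU⟩
        rw [tr_of_mem (V := V ∩ U) _ ⟨hxV, hxU⟩] at h4
        change b x - tr V (dd a) x = 0
        rw [tr_of_mem _ hxV, h4, sub_self]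
      · exact hcoch.supp x hxV
    · rw [dd_sub, dd_tr_dd hV haV.supp hx.1, sub_zero]
      exact hbc x hx.1

theorem van_two2' {V U : Set (Subgroup G)} (hV : V.OrdConnected) (hVi : IsInv V) (hU : IsUpperSet U)
    (hUi : IsInv U) (h1 : Van G Ω D V 1)
    (h2 : ∀ b : (Fin 1 → Ω) → D, IsCoch (V ∩ U) b → IsCoc (G := G) (V ∩ U) b →
      ∃ b' : (Fin 1 → Ω) → D, IsCoch V b' ∧ IsCoc (G := G) V b' ∧ ∀ x, st G x ∈ U → b' x = b x) :
    Van G Ω D (V \ U) 1 := by
  intro c hc hcc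
  have hcV : IsCoch V c := isCoch_mono Set.sdiff_subset hc
  have hczero : ∀ x, st G x ∈ U → c x = 0 := fun x hx => hc.supp x fun h => h.2 hx
  obtain ⟨b, hb, hbc⟩ := h1 c hcV (fun x hx => by
    by_cases hxU : st G x ∈ U
    · exact dd_zero_of_upper hU hczero hxU
    · exact hcc x ⟨hx, hxU⟩)
  have hb2 : IsCoch (V ∩ U) (tr (V ∩ U) b) := isCoch_tr (isInv_inter hVi hUi) hb.smul
  have hb2c : IsCoc (G := G) (V ∩ U) (tr (V ∩ U) b) := fun x hx => by
    rw [dd_tr_inter hU hb.supp hx.2, ← hbc x hx.1]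
    exact hczero x hx.2
  obtain ⟨b', hb', hb'c, hb'e⟩ := h2 _ hb2 hb2c
  refine ⟨fun x => b x - b' x, ⟨(isCoch_sub hb hb').smul, fun x hx => ?_⟩, fun x hx => ?_⟩
  · by_cases hxV : st G x ∈ V
    · have hxU : st G x ∈ U := by
        by_contra h
        exact hx ⟨hxV, h⟩
      rw [hb'e x hxU, tr_of_mem (V := V ∩ U) _ ⟨hxV, hxU⟩, sub_self]
    · exact (isCoch_sub hb hb').supp x hxV
  · rw [dd_sub, hb'c x hx.1, sub_zero]
    exact hbc x hx.1

theorem van_two3 {V U : Set (Subgroup G)} (hV : V.OrdConnected) (hVi : IsInv V) (hU : IsUpperSet U)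
    (hUi : IsInv U) {n : ℕ} (h1 : Van G Ω D V n) (h2 : Van G Ω D (V \ U) (n + 1)) :
    Van G Ω D (V ∩ U) n := by
  -- the common part
  have key : ∀ c : (Fin (n + 1) → Ω) → D, IsCoch (V ∩ U) c → IsCoc (G := G) (V ∩ U) c →
      ∃ b : (Fin (n + 1) → Ω) → D, IsCoch (V \ U) b ∧ IsCoch V (fun x => c x - b x) ∧
        IsCoc (G := G) V (fun x => c x - b x) := by
    intro c hc hcc
    have hcV : IsCoch V c := isCoch_mono Set.inter_subset_left hc
    have hcoch : IsCoch V (tr V (dd c)) := isCoch_tr hVi (fun g x => dd_smul c hc.smul g x)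
    have hcoch' : IsCoch (V \ U) (tr V (dd c)) := by
      refine ⟨hcoch.smul, fun x hx => ?_⟩
      by_cases hxV : st G x ∈ V
      · have hxU : st G x ∈ U := by
          by_contra h
          exact hx ⟨hxV, h⟩
        rw [tr_of_mem _ hxV]
        exact hcc x ⟨hxV, hxU⟩
      · exact hcoch.supp x hxV
    obtain ⟨b, hb, hbc⟩ := h2 _ hcoch' (fun x hx => dd_tr_dd hV hcV.supp hx.1)
    refine ⟨b, hb, isCoch_sub hcV (isCoch_mono Set.sdiff_subset hb), fun x hx => ?_⟩
    rw [dd_sub]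
    by_cases hxU : st G x ∈ U
    · rw [hcc x ⟨hx, hxU⟩, dd_zero_of_upper hU (fun y hy => hb.supp y fun h => h.2 hy) hxU, sub_zero]
    · have h4 := hbc x ⟨hx, hxU⟩
      rw [tr_of_mem _ hx] at h4
      rw [h4, sub_self]
  cases n with
  | zero =>
    intro c hc hcc x
    obtain ⟨b, hb, hcb, hcbc⟩ := key c hc hcc
    have h3 := h1 _ hcb hcbc x
    change c x - b x = 0 at h3
    by_cases hxU : st G x ∈ U
    · rw [hb.supp x (fun h => h.2 hxU), sub_zero] at h3
      exact h3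
    · exact hc.supp x fun h => hxU h.2
  | succ n =>
    intro c hc hcc
    obtain ⟨b, hb, hcb, hcbc⟩ := key c hc hcc
    obtain ⟨a, ha, hac⟩ := h1 _ hcb hcbc
    refine ⟨tr (V ∩ U) a, isCoch_tr (isInv_inter hVi hUi) ha.smul, fun x hx => ?_⟩
    rw [dd_tr_inter hU ha.supp hx.2, ← hac x hx.1]
    change c x = c x - b x
    rw [hb.supp x (fun h => h.2 hx.2), sub_zero]

end Cfsg.Agent.H223.Lim
end

-- part: H842/Lim/Basic
section
/-!
# S5242, tasks A3 and A4

`exists_orbit` : an orbit of points with Sylow stabilizers; `van_all` : acyclicity on all `p`-subgroups;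
`van_of_filt` : filtrations (`van_of_filt_aux` : the two-out-of-three lemma as a hypothesis).
-/

set_option autoImplicit false

namespace Cfsg.Agent.H842.Lim

open MulAction Cfsg.Agent.H539.Lim

universe u v w

variable {G : Type u} [Group G] {Ω : Type v} [MulAction G Ω]

/-- an orbit of points with Sylow stabilizers -/
theorem exists_orbit {p : ℕ} [Fact p.Prime] [Finite G] [Finite Ω] (hΩ : PSet p G Ω) :
    ∃ Ω₀ : Finset Ω, (∀ (g : G), ∀ y ∈ Ω₀, g • y ∈ Ω₀) ∧ (∀ y ∈ Ω₀, ∀ z ∈ Ω₀, ∃ g : G, g • y = z) ∧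
      (∀ y ∈ Ω₀, ∃ S : Sylow p G, (S : Subgroup G) = stabilizer G y) ∧ ¬ p ∣ Ω₀.card ∧ Ω₀.Nonempty := by
  classical
  obtain ⟨S⟩ : Nonempty (Sylow p G) := inferInstance
  obtain ⟨x, hx⟩ := hΩ.exists_fix S S.2
  have hxS : stabilizer G x = (S : Subgroup G) := S.3 (hΩ.pgroup x) hx
  have hfin : (orbit G x).Finite := Set.toFinite _
  refine ⟨hfin.toFinset, ?_, ?_, ?_, ?_, ⟨x, ?_⟩⟩
  · intro g y hy
    rw [Set.Finite.mem_toFinset] at hy ⊢
    obtain ⟨h, rfl⟩ := hy
    exact ⟨g * h, mul_smul g h x⟩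
  · intro y hy z hz
    rw [Set.Finite.mem_toFinset] at hy hz
    obtain ⟨h, rfl⟩ := hy
    obtain ⟨k, rfl⟩ := hz
    refine ⟨k * h⁻¹, ?_⟩
    change (k * h⁻¹) • h • x = k • x
    rw [smul_smul, inv_mul_cancel_right]
  · intro y hy
    rw [Set.Finite.mem_toFinset] at hy
    obtain ⟨h, rfl⟩ := hy
    refine ⟨h • S, ?_⟩
    rw [Sylow.coe_subgroup_smul, ← hxS]
    exact (stabilizer_smul_eq_stabilizer_map_conj h x).symm
  · rw [← Set.ncard_eq_toFinset_card (orbit G x) hfin, ← Nat.card_coe_set_eq,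
      Nat.card_congr (orbitEquivQuotientStabilizer G x), hxS]
    exact S.not_dvd_index
  · rw [Set.Finite.mem_toFinset]
    exact mem_orbit_self x

theorem isInv_univ : IsInv (Set.univ : Set (Subgroup G)) := fun _ _ _ => trivial

theorem st_le_of {k : ℕ} (x : Fin k → Ω) (i : Fin k) : st G x ≤ stabilizer G (x i) := fun g hg => by
  rw [mem_stabilizer_iff] at hg ⊢
  exact congrFun hg i

theorem isPGroup_st {p : ℕ} (hΩ : PSet p G Ω) {k : ℕ} (x : Fin (k + 1) → Ω) : IsPGroup p (st G x) :=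
  (hΩ.pgroup (x 0)).to_le (st_le_of x 0)

/-- a finite `p`-torsion group has exponent a power of `p` -/
theorem exists_exp {p : ℕ} {D : Type w} [AddCommGroup D] [Finite D] (hD : IsPTors p D) :
    ∃ K : ℕ, ∀ d : D, (p ^ K : ℕ) • d = 0 := by
  classical
  have := Fintype.ofFinite D
  choose k hk using hD
  refine ⟨Finset.univ.sup k, fun d => ?_⟩
  obtain ⟨t, ht⟩ : ∃ t, Finset.univ.sup k = k d + t :=
    Nat.exists_eq_add_of_le (Finset.le_sup (f := k) (Finset.mem_univ d))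
  rw [ht, pow_add, mul_comm, mul_smul, hk, smul_zero]

/-- inverse of a number prime to `p` modulo the exponent of `D` -/
theorem exists_inv {p : ℕ} [Fact p.Prime] {D : Type w} [AddCommGroup D] [Finite D] (hD : IsPTors p D) {m : ℕ}
    (hm : ¬ p ∣ m) : ∃ u : ℤ, ∀ d : D, u • m • d = d := by
  obtain ⟨K, hK⟩ := exists_exp hD
  have hcop : Nat.Coprime m (p ^ K) := by
    apply Nat.Coprime.pow_right
    rw [Nat.coprime_comm]
    exact ((Fact.out : p.Prime).coprime_iff_not_dvd).2 hm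
  have h1 : (m : ℤ) * Nat.gcdA m (p ^ K) + ((p ^ K : ℕ) : ℤ) * Nat.gcdB m (p ^ K) = 1 := by
    rw [← Nat.gcd_eq_gcd_ab, hcop.gcd_eq_one, Nat.cast_one]
  refine ⟨Nat.gcdA m (p ^ K), fun d => ?_⟩
  have h2 : (((m : ℤ) * Nat.gcdA m (p ^ K) + ((p ^ K : ℕ) : ℤ) * Nat.gcdB m (p ^ K)) • d : D) = d := by
    rw [h1, one_smul]
  rw [add_smul, mul_comm ((p ^ K : ℕ) : ℤ), mul_smul _ ((p ^ K : ℕ) : ℤ), natCast_zsmul d (p ^ K), hK, smul_zero,
    add_zero, mul_comm, mul_smul, natCast_zsmul] at h2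
  exact h2

variable {D : Type w} [AddCommGroup D] [DistribMulAction G D]

/-- acyclicity on all `p`-subgroups -/
theorem van_all {p : ℕ} [Fact p.Prime] [Finite G] [Finite Ω] [Finite D] (hΩ : PSet p G Ω) (hD : IsPTors p D)
    {V : Set (Subgroup G)} (hV : ∀ P : Subgroup G, IsPGroup p P → P ∈ V) (n : ℕ) :
    Van G Ω D V (n + 1) := by
  intro c hc hcoc
  obtain ⟨Ω₀, h0, -, -, hcard, -⟩ := exists_orbit hΩ
  obtain ⟨u, hu⟩ := exists_inv (D := D) hD hcard
  refine ⟨fun x => u • ∑ y ∈ Ω₀, c (Fin.cons y x), ⟨?_, ?_⟩, ?_⟩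
  · intro g x
    have h1 : ∑ y ∈ Ω₀, g • c (Fin.cons y x) = ∑ y ∈ Ω₀, c (Fin.cons y (g • x)) := by
      refine Finset.sum_bij' (fun y _ => g • y) (fun y _ => g⁻¹ • y) (fun y hy => h0 g y hy)
        (fun y hy => h0 g⁻¹ y hy) (fun y _ => inv_smul_smul g y) (fun y _ => smul_inv_smul g y) ?_
      intro y _
      rw [← hc.smul]
      congr 1
      funext i
      refine Fin.cases ?_ (fun j => ?_) i
      · rfl
      · rfl
    rw [smul_comm g u, Finset.smul_sum (r := g), h1]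
  · intro x hx
    exact absurd (hV _ (isPGroup_st hΩ x)) hx
  · intro x _
    have key : ∀ y : Ω, c x = ∑ j : Fin (n + 1 + 1), ((-1 : ℤ) ^ (j : ℕ)) • c (Fin.cons y (fun i => x (j.succAbove i))) := by
      intro y
      have h1 := hcoc (Fin.cons y x) (hV _ (isPGroup_st hΩ _))
      rw [dd, Fin.sum_univ_succ] at h1
      simp only [Fin.val_zero, pow_zero, one_smul, Fin.val_succ, pow_succ] at h1
      have h2 : (fun j => (Fin.cons y x : Fin (n + 3) → Ω) ((0 : Fin (n + 3)).succAbove j)) = x := by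
        funext j
        rw [Fin.zero_succAbove, Fin.cons_succ]
      have h3 : ∀ j : Fin (n + 2), (fun i => (Fin.cons y x : Fin (n + 3) → Ω) ((Fin.succ j).succAbove i)) =
          (Fin.cons y (fun i => x (j.succAbove i)) : Fin (n + 2) → Ω) := by
        intro j
        funext i
        refine Fin.cases ?_ (fun i => ?_) i
        · rw [Fin.succ_succAbove_zero, Fin.cons_zero, Fin.cons_zero]
        · rw [Fin.succ_succAbove_succ, Fin.cons_succ, Fin.cons_succ]
      rw [h2] at h1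
      simp only [h3, mul_neg, mul_one, neg_smul, Finset.sum_neg_distrib] at h1
      exact eq_of_sub_eq_zero (by rw [sub_eq_add_neg]; exact h1)
    have h1 : (Ω₀.card : ℕ) • c x = ∑ y ∈ Ω₀, ∑ j : Fin (n + 1 + 1), ((-1 : ℤ) ^ (j : ℕ)) •
        c (Fin.cons y (fun i => x (j.succAbove i))) := by
      rw [← Finset.sum_const]
      exact Finset.sum_congr rfl fun y _ => key y
    rw [← hu (c x), h1, Finset.sum_comm, dd, Finset.smul_sum]
    refine Finset.sum_congr rfl fun j _ => ?_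
    rw [← Finset.smul_sum, smul_comm u]

/-- vanishing on the empty set of subgroups -/
theorem van_empty (n : ℕ) : Van G Ω D (∅ : Set (Subgroup G)) n := by
  cases n with
  | zero => exact fun c hc _ x => hc.supp x (fun h => h)
  | succ n => exact fun c _ _ => ⟨fun _ => 0, ⟨fun g _ => (smul_zero g).symm, fun _ _ => rfl⟩, fun x hx => absurd hx (fun h => h)⟩

/-- filtration, the two-out-of-three lemma `van_two1` as a hypothesis -/
theorem van_of_filt_aux [Finite G] (n : ℕ)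
    (two1 : ∀ {V U : Set (Subgroup G)}, V.OrdConnected → IsInv V → IsUpperSet U → IsInv U →
      Van G Ω D (V \ U) n → Van G Ω D (V ∩ U) n → Van G Ω D V n)
    {V : Set (Subgroup G)} (hV : V.OrdConnected) (hVi : IsInv V)
    (f : Subgroup G → ℕ) (hf : ∀ P ∈ V, ∀ Q ∈ V, P ≤ Q → f P ≤ f Q)
    (hfi : ∀ (g : G), ∀ P ∈ V, f (cj g P) = f P)
    (h : ∀ i, Van G Ω D {P | P ∈ V ∧ f P = i} n) : Van G Ω D V n := by
  have key : ∀ k : ℕ, Van G Ω D {P | P ∈ V ∧ f P < k} n := by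
    intro k
    induction k with
    | zero =>
      have : {P : Subgroup G | P ∈ V ∧ f P < 0} = ∅ := by
        ext P
        simp
      rw [this]
      exact van_empty n
    | succ k ih =>
      refine two1 (U := {P | ∃ Q ∈ V, Q ≤ P ∧ k ≤ f Q}) ?_ ?_ ?_ ?_ ?_ ?_
      · refine ⟨fun P hP R hR Q hQ => ?_⟩
        have hQV : Q ∈ V := hV.out hP.1 hR.1 hQ
        exact ⟨hQV, (hf Q hQV R hR.1 hQ.2).trans_lt hR.2⟩
      · intro g P hP
        exact ⟨hVi g P hP.1, by rw [hfi g P hP.1]; exact hP.2⟩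
      · rintro P R hPR ⟨Q, hQ, hQP, hk⟩
        exact ⟨Q, hQ, hQP.trans hPR, hk⟩
      · rintro g P ⟨Q, hQ, hQP, hk⟩
        exact ⟨cj g Q, hVi g Q hQ, Subgroup.map_mono hQP, by rw [hfi g Q hQ]; exact hk⟩
      · have : {P | P ∈ V ∧ f P < k + 1} \ {P | ∃ Q ∈ V, Q ≤ P ∧ k ≤ f Q} = {P | P ∈ V ∧ f P < k} := by
          ext P
          constructor
          · rintro ⟨⟨h1, -⟩, h2⟩
            refine ⟨h1, ?_⟩
            by_contra h3
            exact h2 ⟨P, h1, le_rfl, not_lt.1 h3⟩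
          · rintro ⟨h1, h2⟩
            refine ⟨⟨h1, by omega⟩, ?_⟩
            rintro ⟨Q, hQ, hQP, hk⟩
            have := hf Q hQ P h1 hQP
            omega
        rw [this]
        exact ih
      · have : {P | P ∈ V ∧ f P < k + 1} ∩ {P | ∃ Q ∈ V, Q ≤ P ∧ k ≤ f Q} = {P | P ∈ V ∧ f P = k} := by
          ext P
          constructor
          · rintro ⟨⟨h1, h2⟩, Q, hQ, hQP, hk⟩
            have := hf Q hQ P h1 hQP
            exact ⟨h1, by omega⟩
          · rintro ⟨h1, h2⟩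
            exact ⟨⟨h1, by omega⟩, P, h1, le_rfl, h2.ge⟩
        rw [this]
        exact h k
  obtain ⟨B, hB⟩ : ∃ B : ℕ, ∀ P : Subgroup G, f P < B := by
    have h1 : (Set.range f).Finite := Set.toFinite _
    obtain ⟨B, hB⟩ := h1.bddAbove
    exact ⟨B + 1, fun P => Nat.lt_succ_of_le (hB ⟨P, rfl⟩)⟩
  have : {P | P ∈ V ∧ f P < B} = V := by
    ext P
    exact ⟨fun h => h.1, fun h => ⟨h, hB P⟩⟩
  rw [← this]
  exact key B

/-- A4: filtration -/
theorem van_of_filt [Finite G] {V : Set (Subgroup G)} (hV : V.OrdConnected) (hVi : IsInv V)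
    (f : Subgroup G → ℕ) (hf : ∀ P ∈ V, ∀ Q ∈ V, P ≤ Q → f P ≤ f Q)
    (hfi : ∀ (g : G), ∀ P ∈ V, f (cj g P) = f P) (n : ℕ)
    (h : ∀ i, Van G Ω D {P | P ∈ V ∧ f P = i} n) : Van G Ω D V n :=
  van_of_filt_aux n (fun hV hVi hU hUi h1 h2 => Cfsg.Agent.H223.Lim.van_two1 hV hVi hU hUi h1 h2) hV hVi f hf hfi h

end Cfsg.Agent.H842.Lim
end

-- part: H539/Lim/Filt
section
/-! filtration lemma A4 (proof by helper842, plugged with helper223's `van_two1`) -/

set_option autoImplicit false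

namespace Cfsg.Agent.H539.Lim

universe u v w

variable {G : Type u} [Group G] {Ω : Type v} [MulAction G Ω] {D : Type w} [AddCommGroup D]
  [DistribMulAction G D]

theorem van_of_filt [Finite G] {V : Set (Subgroup G)} (hV : V.OrdConnected) (hVi : IsInv V)
    (f : Subgroup G → ℕ) (hf : ∀ P ∈ V, ∀ Q ∈ V, P ≤ Q → f P ≤ f Q)
    (hfi : ∀ (g : G), ∀ P ∈ V, f (cj g P) = f P) (n : ℕ)
    (h : ∀ i, Van G Ω D {P | P ∈ V ∧ f P = i} n) : Van G Ω D V n :=
  Cfsg.Agent.H842.Lim.van_of_filt_aux n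
    (fun {_ _} hV hVi hU hUi h1 h2 => Cfsg.Agent.H223.Lim.van_two1 hV hVi hU hUi h1 h2) hV hVi f hf hfi h

end Cfsg.Agent.H539.Lim
end

-- part: H95/Lim/Local
section
/-!
# Localization of higher limits (S5242, pieces A5 and A8 of the plan of helper539)
-/

set_option autoImplicit false

namespace Cfsg.Agent.H95.Lim

open MulAction Cfsg.Agent.H539.Lim

universe u v w

variable {G : Type u} [Group G] {Ω : Type v} [MulAction G Ω] {D : Type w} [AddCommGroup D]
  [DistribMulAction G D]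

/-! ### Stabilizers and conjugates -/

theorem mem_st {k : ℕ} {x : Fin k → Ω} {g : G} : g ∈ st G x ↔ ∀ i, g • x i = x i := by
  rw [mem_stabilizer_iff, funext_iff]
  rfl

theorem st_smul {k : ℕ} (g : G) (x : Fin k → Ω) : st G (g • x) = cj g (st G x) :=
  MulAction.stabilizer_smul_eq_stabilizer_map_conj g x

theorem mem_cj {g u : G} {P : Subgroup G} : u ∈ cj g P ↔ g⁻¹ * u * g ∈ P := by
  constructor
  · rintro ⟨w, hw, rfl⟩
    have e : g⁻¹ * (g * w * g⁻¹) * g = w := by group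
    change g⁻¹ * (g * w * g⁻¹) * g ∈ P
    rw [e]
    exact hw
  · intro h
    refine ⟨g⁻¹ * u * g, h, ?_⟩
    change g * (g⁻¹ * u * g) * g⁻¹ = u
    group

theorem cj_cj (g h : G) (P : Subgroup G) : cj g (cj h P) = cj (g * h) P := by
  ext u
  rw [mem_cj, mem_cj, mem_cj]
  have e : h⁻¹ * (g⁻¹ * u * g) * h = (g * h)⁻¹ * u * (g * h) := by group
  rw [e]

theorem cj_one (P : Subgroup G) : cj 1 P = P := by
  ext u
  rw [mem_cj]
  simp

theorem cj_inv_of_eq {g : G} {P Q : Subgroup G} (h : cj g P = Q) : cj g⁻¹ Q = P := by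
  rw [← h, cj_cj, inv_mul_cancel, cj_one]

theorem cj_eq_iff {g : G} {X : Subgroup G} : cj g X = X ↔ g ∈ Nz X := by
  rw [Subgroup.mem_normalizer_iff]
  constructor
  · intro h u
    have h1 : g * u * g⁻¹ ∈ cj g X ↔ u ∈ X := by
      rw [mem_cj]
      have e : g⁻¹ * (g * u * g⁻¹) * g = u := by group
      rw [e]
    rw [h] at h1
    exact h1.symm
  · intro h
    ext u
    rw [mem_cj]
    have h1 := h (g⁻¹ * u * g)
    have e : g * (g⁻¹ * u * g) * g⁻¹ = u := by group
    rw [e] at h1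
    exact h1

theorem cj_self {g : G} {P : Subgroup G} (hg : g ∈ P) : cj g P = P := by
  ext u
  rw [mem_cj]
  constructor
  · intro h
    have e : g * (g⁻¹ * u * g) * g⁻¹ = u := by group
    rw [← e]
    exact P.mul_mem (P.mul_mem hg h) (P.inv_mem hg)
  · intro h
    exact P.mul_mem (P.mul_mem (P.inv_mem hg) h) hg

theorem st_pgroup {p : ℕ} (hΩ : PSet p G Ω) {k : ℕ} (x : Fin (k + 1) → Ω) : IsPGroup p (st G x) := by
  refine (hΩ.pgroup (x 0)).to_le ?_
  intro g hg
  exact mem_st.1 hg 0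

/-- points of `FixPt X Ω` -/
def mkF (X : Subgroup G) (y : Ω) (h : X ≤ stabilizer G y) : FixPt X Ω := ⟨y, h⟩

theorem mkF_val (X : Subgroup G) (y : Ω) (h : X ≤ stabilizer G y) : (mkF X y h).1 = y := rfl

/-! ### A8 -/

/-- the stabilizer in `N(X)` of a tuple of `X`-fixed points -/
theorem map_st_fixPt (X : Subgroup G) {k : ℕ} (x : Fin k → FixPt X Ω) :
    (st ↥(Nz X) x).map (Nz X).subtype = Nz X ⊓ st G (fun i => (x i).1) := by
  ext g
  constructor
  · rintro ⟨n, hn, rfl⟩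
    refine ⟨n.2, mem_st.2 fun i => ?_⟩
    have h := mem_st.1 hn i
    exact congrArg Subtype.val h
  · rintro ⟨h1, h2⟩
    refine ⟨⟨g, h1⟩, mem_st.2 fun i => ?_, rfl⟩
    exact Subtype.ext (mem_st.1 h2 i)

/-- A8: the sets `FixPt X Ω` are again `PSet`s -/
theorem pset_fixPt {p : ℕ} (hΩ : PSet p G Ω) (X : Subgroup G) (hX : IsPGroup p X) :
    PSet p ↥(Nz X) (FixPt X Ω) := by
  constructor
  · intro x
    have h1 : (stabilizer ↥(Nz X) x).map (Nz X).subtype ≤ stabilizer G x.1 := by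
      rintro _ ⟨n, hn, rfl⟩
      have h := mem_stabilizer_iff.1 hn
      exact congrArg Subtype.val h
    have h2 : IsPGroup p ((stabilizer ↥(Nz X) x).map (Nz X).subtype) := (hΩ.pgroup x.1).to_le h1
    exact h2.of_equiv (Subgroup.equivMapOfInjective _ _ (Nz X).subtype_injective).symm
  · intro P hP
    have h1 : IsPGroup p (P.map (Nz X).subtype) := hP.map _
    have h2 : P.map (Nz X).subtype ≤ Nz X := by
      rintro _ ⟨n, -, rfl⟩
      exact n.2
    have h3 : IsPGroup p (P.map (Nz X).subtype ⊔ X : Subgroup G) := h1.to_sup_of_normal_right' hX h2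
    obtain ⟨y, hy⟩ := hΩ.exists_fix _ h3
    refine ⟨mkF X y (le_sup_right.trans hy), fun n hn => ?_⟩
    rw [mem_stabilizer_iff]
    apply Subtype.ext
    exact mem_stabilizer_iff.1 (hy (Subgroup.mem_sup_left (Subgroup.mem_map_of_mem _ hn)))

/-! ### A5 -/

/-- a `p`-subgroup whose normalizer in the `p`-group `T` is not larger is equal to `T` -/
theorem eq_of_normalizer {p : ℕ} [Fact p.Prime] [Finite G] {P T : Subgroup G} (hT : IsPGroup p T) (hPT : P ≤ T)
    (h : ∀ g ∈ T, cj g P = P → g ∈ P) : P = T := by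
  by_contra hne
  have hnil : Group.IsNilpotent T := hT.isNilpotent
  have hlt : P.subgroupOf T < ⊤ := by
    rw [lt_top_iff_ne_top]
    intro h1
    rw [Subgroup.subgroupOf_eq_top] at h1
    exact hne (le_antisymm hPT h1)
  have h1 := Group.normalizerCondition_of_isNilpotent (G := T) _ hlt
  obtain ⟨g, hg, hg'⟩ := SetLike.exists_of_lt h1
  apply hg'
  rw [Subgroup.mem_subgroupOf]
  refine h g g.2 ?_
  rw [cj_eq_iff, Subgroup.mem_normalizer_iff]
  intro u
  rw [Subgroup.mem_normalizer_iff] at hg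
  constructor
  · intro hu
    have := (hg ⟨u, hPT hu⟩).1 (Subgroup.mem_subgroupOf.2 hu)
    exact Subgroup.mem_subgroupOf.1 this
  · intro hu
    have huT : u ∈ T := by
      have e : u = (g : G)⁻¹ * ((g : G) * u * (g : G)⁻¹) * g := by group
      rw [e]
      exact T.mul_mem (T.mul_mem (T.inv_mem g.2) (hPT hu)) g.2
    have := (hg ⟨u, huT⟩).2 (Subgroup.mem_subgroupOf.2 hu)
    exact Subgroup.mem_subgroupOf.1 this

section Local

variable {p : ℕ} [Fact p.Prime] [Finite G] (hΩ : PSet p G Ω) {V : Set (Subgroup G)}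
  (hVi : IsInv V) (X : Subgroup G → Subgroup G) (h1 : ∀ P ∈ V, X P ≤ P)
  (h2 : ∀ (g : G), ∀ P ∈ V, X (cj g P) = cj g (X P))
  (h3 : ∀ P ∈ V, ∀ Q ∈ V, P ≤ Q → X P = X Q)

omit [Finite G] in
include h2 in
theorem le_nz {P : Subgroup G} (hP : P ∈ V) : P ≤ Nz (X P) := by
  intro g hg
  rw [← cj_eq_iff, ← h2 g P hP, cj_self hg]

include hΩ h2 in
/-- (i) -/
theorem st_eq {k : ℕ} {R : Subgroup G} (y : Fin (k + 1) → Ω) (hV : Nz R ⊓ st G y ∈ V)
    (hX : X (Nz R ⊓ st G y) = R) : Nz R ⊓ st G y = st G y := by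
  refine eq_of_normalizer (st_pgroup hΩ y) inf_le_right ?_
  intro g hg hgc
  refine ⟨?_, hg⟩
  have h := h2 g _ hV
  rw [hgc, hX] at h
  exact cj_eq_iff.1 h.symm

variable {n : ℕ} {c : (Fin (n + 1) → Ω) → D} (hc : IsCoch V c) (hcc : IsCoc (G := G) V c)

/-- the local collection -/
def VL (V : Set (Subgroup G)) (X : Subgroup G → Subgroup G) (R : Subgroup G) : Set (Subgroup ↥(Nz R)) :=
  {Q | Q.map (Nz R).subtype ∈ V ∧ X (Q.map (Nz R).subtype) = R}

open Classical in
/-- the local cochain -/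
noncomputable def cL {V : Set (Subgroup G)} (X : Subgroup G → Subgroup G) (R : Subgroup G)
    {k : ℕ} (c : (Fin k → Ω) → D) (x : Fin k → FixPt R Ω) : D :=
  if st ↥(Nz R) x ∈ VL V X R then c (fun i => (x i).1) else 0

omit [Finite G] in
theorem map_cj {R : Subgroup G} (g : ↥(Nz R)) (Q : Subgroup ↥(Nz R)) :
    (cj g Q).map (Nz R).subtype = cj (g : G) (Q.map (Nz R).subtype) := by
  unfold cj
  rw [Subgroup.map_map, Subgroup.map_map]
  rfl

omit [Finite G] in
include hVi h2 in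
theorem vL_inv (R : Subgroup G) : IsInv (VL V X R) := by
  rintro g Q ⟨ha, hb⟩
  refine ⟨?_, ?_⟩
  · rw [map_cj]
    exact hVi _ _ ha
  · rw [map_cj, h2 _ _ ha, hb, cj_eq_iff]
    exact g.2

omit [Finite G] in
include hVi h2 hc in
theorem cL_coch (R : Subgroup G) : IsCoch (VL V X R) (cL (V := V) X R c) := by
  constructor
  · intro g x
    unfold cL
    have h4 : st ↥(Nz R) (g • x) ∈ VL V X R ↔ st ↥(Nz R) x ∈ VL V X R := by
      rw [st_smul]
      constructor
      · intro h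
        have := vL_inv hVi X h2 R g⁻¹ _ h
        rwa [cj_cj, inv_mul_cancel, cj_one] at this
      · exact fun h => vL_inv hVi X h2 R g _ h
    by_cases h : st ↥(Nz R) x ∈ VL V X R
    · rw [if_pos h, if_pos (h4.2 h)]
      exact hc.smul (g : G) (fun i => (x i).1)
    · rw [if_neg h, if_neg (fun h' => h (h4.1 h')), smul_zero]
  · intro x hx
    unfold cL
    rw [if_neg hx]

include hΩ h2 h3 hc hcc in
theorem cL_coc (R : Subgroup G) : IsCoc (G := ↥(Nz R)) (VL V X R) (cL (V := V) X R c) := by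
  intro x hx
  have hx' := hx
  obtain ⟨ha, hb⟩ := hx'
  rw [map_st_fixPt] at ha hb
  have hst := st_eq hΩ X h2 (fun i => (x i).1) ha hb
  rw [hst] at ha hb
  have hd := hcc (fun i => (x i).1) ha
  rw [← hd]
  unfold dd
  refine Finset.sum_congr rfl fun i _ => ?_
  congr 1
  unfold cL
  by_cases h : st ↥(Nz R) (fun j => x (i.succAbove j)) ∈ VL V X R
  · rw [if_pos h]
  · rw [if_neg h]
    symm
    apply hc.supp
    intro hV
    apply h
    have hle : st G (fun i => (x i).1) ≤ st G (fun j => (x (i.succAbove j)).1) :=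
      Coef.st_succAbove_le G (fun i => (x i).1) i
    have hXR : X (st G (fun j => (x (i.succAbove j)).1)) = R := by
      rw [← h3 _ ha _ hV hle, hb]
    have hle2 := le_nz X h2 hV
    rw [hXR] at hle2
    have e := map_st_fixPt R (fun j => x (i.succAbove j))
    rw [inf_eq_right.2 hle2] at e
    refine ⟨?_, ?_⟩
    · rw [e]; exact hV
    · rw [e]; exact hXR

end Local

/-- A5 in degree 0 -/
theorem van_of_local_zero {p : ℕ} [Fact p.Prime] [Finite G] (hΩ : PSet p G Ω) {V : Set (Subgroup G)}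
    (hVi : IsInv V) (X : Subgroup G → Subgroup G) (h1 : ∀ P ∈ V, X P ≤ P)
    (h2 : ∀ (g : G), ∀ P ∈ V, X (cj g P) = cj g (X P))
    (h3 : ∀ P ∈ V, ∀ Q ∈ V, P ≤ Q → X P = X Q)
    (h : ∀ P ∈ V, Van ↥(Nz (X P)) (FixPt (X P) Ω) D
      {Q | Q.map (Nz (X P)).subtype ∈ V ∧ X (Q.map (Nz (X P)).subtype) = X P} 0) :
    Van G Ω D V 0 := by
  intro c hc hcc x
  by_cases hx : st G x ∈ V
  · have h4 := h _ hx (cL (V := V) X (X (st G x)) c) (cL_coch hVi X h2 hc _) (cL_coc hΩ X h2 h3 hc hcc _)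
      (fun i => mkF _ (x i) (fun g hg => mem_st.1 (h1 _ hx hg) i))
    unfold cL at h4
    rw [if_pos] at h4
    · exact h4
    · have e := map_st_fixPt (X (st G x)) (fun i => mkF (X (st G x)) (x i) (fun g hg => mem_st.1 (h1 _ hx hg) i))
      change _ = Nz (X (st G x)) ⊓ st G x at e
      rw [inf_eq_right.2 (le_nz X h2 hx)] at e
      refine ⟨?_, ?_⟩
      · rw [e]; exact hx
      · rw [e]
  · exact hc.supp x hx

open Classical in
/-- A5: the local solution, extended by zero -/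
theorem exists_local {p : ℕ} [Fact p.Prime] [Finite G] (hΩ : PSet p G Ω) {V : Set (Subgroup G)}
    (hVi : IsInv V) (X : Subgroup G → Subgroup G) (h1 : ∀ P ∈ V, X P ≤ P)
    (h2 : ∀ (g : G), ∀ P ∈ V, X (cj g P) = cj g (X P))
    (h3 : ∀ P ∈ V, ∀ Q ∈ V, P ≤ Q → X P = X Q) (n : ℕ)
    (h : ∀ P ∈ V, Van ↥(Nz (X P)) (FixPt (X P) Ω) D
      {Q | Q.map (Nz (X P)).subtype ∈ V ∧ X (Q.map (Nz (X P)).subtype) = X P} (n + 1))
    {c : (Fin (n + 2) → Ω) → D} (hc : IsCoch V c) (hcc : IsCoc (G := G) V c) (R : Subgroup G) :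
    ∃ B : (Fin (n + 1) → Ω) → D, (∀ g ∈ Nz R, ∀ y, B (g • y) = g • B y) ∧
      (∀ y, ¬ (st G y ∈ V ∧ X (st G y) = R) → B y = 0) ∧
      ∀ y : Fin (n + 2) → Ω, st G y ∈ V → X (st G y) = R → c y = dd B y := by
  by_cases hR : ∃ P ∈ V, X P = R
  · obtain ⟨P, hP, rfl⟩ := hR
    obtain ⟨b, hb, hcb⟩ := h P hP (cL (V := V) X (X P) c) (cL_coch hVi X h2 hc _) (cL_coc hΩ X h2 h3 hc hcc _)
    refine ⟨fun y => if hy : ∀ i, X P ≤ stabilizer G (y i) then b (fun i => mkF (X P) (y i) (hy i)) else 0, ?_, ?_, ?_⟩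
    · intro g hg y
      by_cases hy : ∀ i, X P ≤ stabilizer G (y i)
      · have hy' : ∀ i, X P ≤ stabilizer G ((g • y) i) := fun i =>
          ((⟨g, hg⟩ : ↥(Nz (X P))) • mkF (X P) (y i) (hy i)).2
        simp only [dif_pos hy, dif_pos hy']
        exact hb.smul (⟨g, hg⟩ : ↥(Nz (X P))) (fun i => mkF (X P) (y i) (hy i))
      · have hy' : ¬ ∀ i, X P ≤ stabilizer G ((g • y) i) := by
          intro hy'
          apply hy
          intro i
          have h5 := ((⟨g, hg⟩⁻¹ : ↥(Nz (X P))) • mkF (X P) ((g • y) i) (hy' i)).2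
          have e : ((⟨g, hg⟩⁻¹ : ↥(Nz (X P))) • mkF (X P) ((g • y) i) (hy' i)).1 = y i := by
            rw [FixPt.coe_smul]
            exact inv_smul_smul g (y i)
          rwa [e] at h5
        simp only [dif_neg hy, dif_neg hy', smul_zero]
    · intro y hy0
      by_cases hy : ∀ i, X P ≤ stabilizer G (y i)
      · simp only [dif_pos hy]
        apply hb.supp
        rintro ⟨ha, ha'⟩
        rw [map_st_fixPt] at ha ha'
        have hst := st_eq hΩ X h2 y ha ha'
        change Nz (X P) ⊓ st G y ∈ V at ha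
        change X (Nz (X P) ⊓ st G y) = X P at ha'
        rw [hst] at ha ha'
        exact hy0 ⟨ha, ha'⟩
      · simp only [dif_neg hy]
    · intro y hyV hyX
      have hy : ∀ i, X P ≤ stabilizer G (y i) := fun i g hg => mem_st.1 (h1 _ hyV (hyX ▸ hg)) i
      have e := map_st_fixPt (X P) (fun i => mkF (X P) (y i) (hy i))
      change _ = Nz (X P) ⊓ st G y at e
      have hle := le_nz X h2 hyV
      rw [hyX] at hle
      rw [inf_eq_right.2 hle] at e
      have hmem : st ↥(Nz (X P)) (fun i => mkF (X P) (y i) (hy i)) ∈ VL V X (X P) := by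
        refine ⟨?_, ?_⟩
        · rw [e]; exact hyV
        · rw [e]; exact hyX
      have h5 := hcb (fun i => mkF (X P) (y i) (hy i)) hmem
      unfold cL at h5
      rw [if_pos hmem] at h5
      change c y = _ at h5
      rw [h5]
      unfold dd
      refine Finset.sum_congr rfl fun i _ => ?_
      congr 1
      simp only [dif_pos (fun j => hy (i.succAbove j))]
  · refine ⟨fun _ => 0, fun g _ y => (smul_zero g).symm, fun _ _ => rfl, fun y hyV hyX => ?_⟩
    exact absurd ⟨_, hyV, hyX⟩ hR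

/-- class representatives -/
theorem exists_rep (G : Type u) [Group G] : ∃ (rep : Subgroup G → Subgroup G) (t : Subgroup G → G),
    (∀ A, cj (t A) (rep A) = A) ∧ ∀ (g : G) A, rep (cj g A) = rep A := by
  let r : Setoid (Subgroup G) :=
    { r := fun A B => ∃ g : G, cj g A = B
      iseqv := ⟨fun A => ⟨1, cj_one A⟩, fun {A B} ⟨g, hg⟩ => ⟨g⁻¹, cj_inv_of_eq hg⟩,
        fun {A B C} ⟨g, hg⟩ ⟨h, hh⟩ => ⟨h * g, by rw [← cj_cj, hg, hh]⟩⟩ }
  have h0 : ∀ A : Subgroup G, ∃ t : G, cj t (Quotient.mk r A).out = A := fun A => Quotient.mk_out (s := r) A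
  choose t ht using h0
  refine ⟨fun A => (Quotient.mk r A).out, t, ht, fun g A => ?_⟩
  have h4 : Quotient.mk r (cj g A) = Quotient.mk r A :=
    Quotient.sound (s := r) ⟨g⁻¹, by rw [cj_cj, inv_mul_cancel, cj_one]⟩
  change (Quotient.mk r (cj g A)).out = (Quotient.mk r A).out
  rw [h4]

/-- A5: localization -/
theorem van_of_local {p : ℕ} [Fact p.Prime] [Finite G] (hΩ : PSet p G Ω) {V : Set (Subgroup G)}
    (hVi : IsInv V) (X : Subgroup G → Subgroup G) (h1 : ∀ P ∈ V, X P ≤ P)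
    (h2 : ∀ (g : G), ∀ P ∈ V, X (cj g P) = cj g (X P))
    (h3 : ∀ P ∈ V, ∀ Q ∈ V, P ≤ Q → X P = X Q) (n : ℕ)
    (h : ∀ P ∈ V, Van ↥(Nz (X P)) (FixPt (X P) Ω) D
      {Q | Q.map (Nz (X P)).subtype ∈ V ∧ X (Q.map (Nz (X P)).subtype) = X P} n) :
    Van G Ω D V n := by
  classical
  match n, h with
  | 0, h => exact van_of_local_zero hΩ hVi X h1 h2 h3 h
  | n + 1, h =>
    intro c hc hcc
    have hloc := exists_local hΩ hVi X h1 h2 h3 n h hc hcc
    choose B hBs hB0 hBd using hloc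
    obtain ⟨rep, t, ht, hrep⟩ := exists_rep G
    have hVi' : ∀ (g : G) (P : Subgroup G), cj g P ∈ V → P ∈ V := by
      intro g P hP
      have := hVi g⁻¹ _ hP
      rwa [cj_cj, inv_mul_cancel, cj_one] at this
    refine ⟨fun x => if st G x ∈ V then t (X (st G x)) • B (rep (X (st G x))) ((t (X (st G x)))⁻¹ • x) else 0,
      ⟨?_, ?_⟩, ?_⟩
    · intro g x
      by_cases hx : st G x ∈ V
      · have hx' : st G (g • x) ∈ V := by rw [st_smul]; exact hVi g _ hx
        simp only [if_pos hx, if_pos hx']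
        have hXg : X (st G (g • x)) = cj g (X (st G x)) := by rw [st_smul, h2 g _ hx]
        rw [hXg, hrep]
        set A := X (st G x) with hA
        have hn : (t (cj g A))⁻¹ * g * t A ∈ Nz (rep A) := by
          rw [← cj_eq_iff, ← cj_cj, ← cj_cj, ht A]
          have h4 := ht (cj g A)
          rw [hrep] at h4
          exact cj_inv_of_eq h4
        have h5 := hBs (rep A) _ hn ((t A)⁻¹ • x)
        have e1 : ((t (cj g A))⁻¹ * g * t A) • (t A)⁻¹ • x = (t (cj g A))⁻¹ • g • x := by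
          rw [smul_smul, smul_smul]
          congr 1
          group
        rw [e1] at h5
        rw [h5, smul_smul, smul_smul]
        congr 1
        group
      · have hx' : st G (g • x) ∉ V := by
          rw [st_smul]
          exact fun h' => hx (hVi' g _ h')
        simp only [if_neg hx, if_neg hx', smul_zero]
    · intro x hx
      simp only [if_neg hx]
    · intro x hx
      set A := X (st G x) with hA
      have hst : st G ((t A)⁻¹ • x) = cj (t A)⁻¹ (st G x) := st_smul _ _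
      have hV1 : st G ((t A)⁻¹ • x) ∈ V := by rw [hst]; exact hVi _ _ hx
      have hX1 : X (st G ((t A)⁻¹ • x)) = rep A := by
        rw [hst, h2 _ _ hx]
        exact cj_inv_of_eq (ht A)
      have h4 := hBd (rep A) ((t A)⁻¹ • x) hV1 hX1
      have h5 := hc.smul (t A) ((t A)⁻¹ • x)
      rw [smul_inv_smul] at h5
      rw [h5, h4]
      unfold dd
      rw [Finset.smul_sum]
      refine Finset.sum_congr rfl fun i _ => ?_
      rw [smul_comm]
      congr 1
      have hle : st G x ≤ st G (fun j => x (i.succAbove j)) := Coef.st_succAbove_le G x i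
      have e2 : (fun j => ((t A)⁻¹ • x) (i.succAbove j)) = (t A)⁻¹ • (fun j => x (i.succAbove j)) := rfl
      rw [e2]
      beta_reduce
      by_cases hy : st G (fun j => x (i.succAbove j)) ∈ V
      · rw [if_pos hy, ← h3 _ hx _ hy hle]
      · rw [if_neg hy, hB0, smul_zero]
        rintro ⟨hV2, -⟩
        rw [st_smul] at hV2
        exact hy (hVi' _ _ hV2)

end Cfsg.Agent.H95.Lim
end

-- part: H481/Lim/Norm
section
/-!
# S5242, section B: orbit sums and degree zero (tasks B1, B2; helper481)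
-/

set_option autoImplicit false

namespace Cfsg.Agent.H481.Lim

open MulAction Cfsg.Agent.H539.Lim

universe u v w

/-- a maximal subgroup of a `p`-group -/
theorem exists_max {p : ℕ} [Fact p.Prime] {A : Type*} [Group A] [Finite A] (hA : IsPGroup p A) {B : Subgroup A}
    (hB : B ≠ ⊤) : ∃ M : Subgroup A, B ≤ M ∧ M.index = p ∧ M.Normal := by
  have hp : p.Prime := Fact.out
  obtain ⟨n, hn⟩ := IsPGroup.iff_card.1 hA
  obtain ⟨k, hk⟩ := IsPGroup.iff_card.1 (hA.to_subgroup B)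
  have hkn : k < n := by
    by_contra hcon
    push Not at hcon
    apply hB
    refine Subgroup.eq_top_of_le_card B ?_
    rw [hn, hk]
    exact Nat.pow_le_pow_right hp.pos hcon
  obtain ⟨M, hM, hBM⟩ := Sylow.exists_subgroup_card_pow_prime_le p (n := k) (m := n - 1)
    (by rw [hn]; exact pow_dvd_pow p (by omega)) B hk (by omega)
  have hi : M.index = p := by
    have h1 := M.card_mul_index
    rw [hM, hn] at h1
    have h2 : p ^ n = p ^ (n - 1) * p := by
      rw [← pow_succ]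
      congr 1
      omega
    rw [h2] at h1
    exact Nat.eq_of_mul_eq_mul_left (pow_pos hp.pos _) h1
  refine ⟨M, hBM, hi, ?_⟩
  apply Subgroup.normal_of_index_eq_minFac_card
  rw [hi, hn, Nat.Prime.pow_minFac hp (by omega)]

section

variable {G : Type u} [Group G]

theorem exists_M {p : ℕ} [Fact p.Prime] {A : Subgroup G} [Finite ↥A] (hA : IsPGroup p A) {B : Subgroup G}
    (hB : ¬ A ≤ B) : ∃ M : Subgroup G, M ≤ A ∧ M.relIndex A = p ∧ (∀ c ∈ A, c ∈ B → c ∈ M) ∧
      ∃ a ∈ A, a ∉ M ∧ (∀ c ∈ A, ∃ i < p, ∃ m ∈ M, c = a ^ i * m) ∧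
        ∀ i < p, ∀ j < p, ∀ m ∈ M, ∀ m' ∈ M, ∀ b ∈ A, b ∈ B → a ^ i * m * b = a ^ j * m' → i = j := by
  have hp : p.Prime := Fact.out
  obtain ⟨M', hBM, hi, hn⟩ := exists_max hA (B := B.subgroupOf A) (by
    intro h
    apply hB
    exact Subgroup.subgroupOf_eq_top.1 h)
  have hcard : Nat.card (↥A ⧸ M') = p := hi
  have hfin : Finite (↥A ⧸ M') := inferInstance
  have htop : M' ≠ ⊤ := by
    rintro rfl
    rw [Subgroup.index_top] at hi
    exact hp.one_lt.ne hi
  obtain ⟨a, ha⟩ : ∃ a : ↥A, a ∉ M' := by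
    by_contra hcon
    push Not at hcon
    exact htop ((Subgroup.eq_top_iff' M').2 hcon)
  have ha1 : (QuotientGroup.mk a : ↥A ⧸ M') ≠ 1 := by
    rwa [ne_eq, QuotientGroup.eq_one_iff]
  have hap : (QuotientGroup.mk a : ↥A ⧸ M') ^ p = 1 := by
    rw [← hcard]
    exact pow_card_eq_one'
  have ho : orderOf (QuotientGroup.mk a : ↥A ⧸ M') = p := orderOf_eq_prime hap ha1
  refine ⟨M'.map A.subtype, ?_, ?_, ?_, (a : G), a.2, ?_, ?_, ?_⟩
  · rintro _ ⟨x, -, rfl⟩
    exact x.2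
  · rw [Subgroup.relIndex]
    have : (M'.map A.subtype).subgroupOf A = M' := by
      ext x
      rw [Subgroup.mem_subgroupOf]
      constructor
      · rintro ⟨y, hy, hyx⟩
        have : y = x := Subtype.ext hyx
        rwa [← this]
      · intro hx
        exact ⟨x, hx, rfl⟩
    rw [this, hi]
  · intro c hc hcB
    exact ⟨⟨c, hc⟩, hBM hcB, rfl⟩
  · rintro ⟨x, hx, hxa⟩
    apply ha
    have : x = a := Subtype.ext hxa
    rwa [← this]
  · intro c hc
    obtain ⟨n, hn'⟩ := (mem_powers_of_prime_card hcard ha1 : (QuotientGroup.mk (⟨c, hc⟩ : ↥A) : ↥A ⧸ M') ∈ _)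
    have hn2 : (QuotientGroup.mk a : ↥A ⧸ M') ^ (n % p) = QuotientGroup.mk (⟨c, hc⟩ : ↥A) := by
      rw [← ho, pow_mod_orderOf]
      exact hn'
    rw [← QuotientGroup.mk_pow, QuotientGroup.eq] at hn2
    refine ⟨n % p, Nat.mod_lt _ hp.pos, _, ⟨_, hn2, rfl⟩, ?_⟩
    simp
  · rintro i hi' j hj _ ⟨m, hm, rfl⟩ _ ⟨m', hm', rfl⟩ b hb hbB h
    have h1 : a ^ i * m * ⟨b, hb⟩ = a ^ j * m' := Subtype.ext h
    have h2 := congrArg (QuotientGroup.mk : ↥A → ↥A ⧸ M') h1
    have hbM : (⟨b, hb⟩ : ↥A) ∈ M' := hBM hbB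
    rw [QuotientGroup.mk_mul, QuotientGroup.mk_mul, QuotientGroup.mk_mul, (QuotientGroup.eq_one_iff _).2 hbM,
      (QuotientGroup.eq_one_iff _).2 hm, (QuotientGroup.eq_one_iff _).2 hm', mul_one, mul_one, mul_one,
      QuotientGroup.mk_pow, QuotientGroup.mk_pow] at h2
    exact pow_injOn_Iio_orderOf (by rw [ho]; exact hi') (by rw [ho]; exact hj) h2

end

section

variable {G : Type u} [Group G] {Ω : Type v} [MulAction G Ω] {D : Type w} [AddCommGroup D]
  [DistribMulAction G D]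

/-- one orbit -/
theorem orbit_sum {p : ℕ} [Fact p.Prime] [Finite G] {A : Subgroup G} (hA : IsPGroup p A) (hg : NGood p D A)
    (Z : Finset Ω) (hZ : ∀ a ∈ A, ∀ y ∈ Z, a • y ∈ Z) {y : Ω} (hy : y ∈ Z) (hfix : ¬ A ≤ stabilizer G y)
    (f : Ω → D) (hf : ∀ a ∈ A, ∀ y ∈ Z, f (a • y) = a • f y) (w : D) (hw : ∀ y ∈ Z, p • f y = w)
    (hwA : ∀ a ∈ A, a • w = w) :
    ∃ O : Finset Ω, O ⊆ Z ∧ y ∈ O ∧ (∀ a ∈ A, ∀ u ∈ O, a • u ∈ O) ∧ ∃ m : ℕ, O.card = p * m ∧
      ∑ u ∈ O, f u = m • w := by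
  classical
  obtain ⟨M, hMA, hMp, hBM, a, ha, haM, hpow, huniq⟩ := exists_M hA hfix
  set O : Finset Ω := Z.filter fun u => ∃ c ∈ A, u = c • y with hO
  set OM : Finset Ω := Z.filter fun u => ∃ c ∈ M, u = c • y with hOM
  have hOZ : O ⊆ Z := Finset.filter_subset _ _
  have hOMZ : OM ⊆ Z := Finset.filter_subset _ _
  have hmem : ∀ (i : ℕ), ∀ u ∈ OM, a ^ i • u ∈ O := by
    intro i u hu
    obtain ⟨hu1, c, hc, rfl⟩ := Finset.mem_filter.1 hu
    refine Finset.mem_filter.2 ⟨hZ _ (pow_mem ha i) _ hu1, a ^ i * c, mul_mem (pow_mem ha i) (hMA hc), ?_⟩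
    rw [mul_smul]
  have hinj : ∀ x ∈ Finset.range p ×ˢ OM, ∀ x' ∈ Finset.range p ×ˢ OM, a ^ x.1 • x.2 = a ^ x'.1 • x'.2 → x = x' := by
    rintro ⟨i, u⟩ hx ⟨j, u'⟩ hx' h
    rw [Finset.mem_product, Finset.mem_range] at hx hx'
    obtain ⟨hi, hu⟩ := hx
    obtain ⟨hj, hu'⟩ := hx'
    obtain ⟨-, c, hc, hcu⟩ := Finset.mem_filter.1 hu
    obtain ⟨-, c', hc', hcu'⟩ := Finset.mem_filter.1 hu'
    dsimp only at h hi hj hcu hcu'
    rw [hcu, hcu', smul_smul, smul_smul] at h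
    have h1 : (a ^ i * c)⁻¹ * (a ^ j * c') ∈ stabilizer G y := by
      rw [mem_stabilizer_iff, mul_smul, ← h, inv_smul_smul]
    have h2 : i = j := huniq i hi j hj c hc c' hc' _ (mul_mem (inv_mem (mul_mem (pow_mem ha i) (hMA hc)))
      (mul_mem (pow_mem ha j) (hMA hc'))) h1 (by group)
    subst h2
    rw [mul_smul, mul_smul] at h
    have h3 := smul_left_cancel _ h
    rw [hcu, hcu', h3]
  have hsurj : ∀ u ∈ O, ∃ x ∈ Finset.range p ×ˢ OM, a ^ x.1 • x.2 = u := by
    intro u hu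
    obtain ⟨hu1, c, hc, rfl⟩ := Finset.mem_filter.1 hu
    obtain ⟨i, hi, m, hm, rfl⟩ := hpow c hc
    refine ⟨(i, m • y), Finset.mem_product.2 ⟨Finset.mem_range.2 hi, Finset.mem_filter.2 ⟨hZ m (hMA hm) y hy, m, hm, rfl⟩⟩,
      ?_⟩
    rw [mul_smul]
  have hcard : O.card = p * OM.card := by
    have h0 : p * OM.card = (Finset.range p ×ˢ OM).card := by rw [Finset.card_product, Finset.card_range]
    rw [h0]
    refine (Finset.card_nbij (fun x : ℕ × Ω => a ^ x.1 • x.2) ?_ ?_ ?_).symm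
    · rintro ⟨i, u⟩ hx
      exact hmem i u (Finset.mem_product.1 hx).2
    · intro x hx x' hx' h
      exact hinj x hx x' hx' h
    · intro u hu
      obtain ⟨x, hx, h⟩ := hsurj u hu
      exact ⟨x, hx, h⟩
  have hsum : ∑ u ∈ O, f u = ∑ i ∈ Finset.range p, a ^ i • ∑ u ∈ OM, f u := by
    have h1 : ∑ x ∈ Finset.range p ×ˢ OM, f (a ^ x.1 • x.2) = ∑ u ∈ O, f u := by
      refine Finset.sum_nbij (fun x : ℕ × Ω => a ^ x.1 • x.2) ?_ ?_ ?_ (fun _ _ => rfl)
      · rintro ⟨i, u⟩ hx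
        exact hmem i u (Finset.mem_product.1 hx).2
      · intro x hx x' hx' h
        exact hinj x hx x' hx' h
      · intro u hu
        obtain ⟨x, hx, h⟩ := hsurj u hu
        exact ⟨x, hx, h⟩
    rw [← h1, Finset.sum_product]
    refine Finset.sum_congr rfl fun i _ => ?_
    rw [Finset.smul_sum]
    exact Finset.sum_congr rfl fun u hu => hf _ (pow_mem ha i) u (hOMZ hu)
  have hMz : ∀ m ∈ M, m • ∑ u ∈ OM, f u = ∑ u ∈ OM, f u := by
    intro m hm
    rw [Finset.smul_sum]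
    have h1 : ∀ u ∈ OM, m • f u = f (m • u) := fun u hu => (hf m (hMA hm) u (hOMZ hu)).symm
    rw [Finset.sum_congr rfl h1]
    refine Finset.sum_nbij (fun u => m • u) ?_ ?_ ?_ (fun _ _ => rfl)
    · intro u hu
      obtain ⟨hu1, c, hc, rfl⟩ := Finset.mem_filter.1 hu
      exact Finset.mem_filter.2 ⟨hZ _ (hMA hm) _ hu1, m * c, mul_mem hm hc, by rw [mul_smul]⟩
    · intro u _ u' _ h
      exact smul_left_cancel m h
    · intro u hu
      obtain ⟨hu1, c, hc, rfl⟩ := Finset.mem_filter.1 hu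
      refine ⟨m⁻¹ • c • y, Finset.mem_coe.2 (Finset.mem_filter.2 ⟨hZ _ (inv_mem (hMA hm)) _ hu1, m⁻¹ * c,
        mul_mem (inv_mem hm) hc, by rw [mul_smul]⟩), ?_⟩
      dsimp only
      rw [smul_inv_smul]
  have hpz : p • ∑ u ∈ OM, f u = OM.card • w := by
    rw [Finset.smul_sum, Finset.sum_congr rfl fun u hu => hw u (hOMZ hu), Finset.sum_const]
  refine ⟨O, hOZ, Finset.mem_filter.2 ⟨hy, 1, one_mem _, (one_smul _ _).symm⟩, ?_, OM.card, hcard, ?_⟩
  · intro b hb u hu
    obtain ⟨hu1, c, hc, rfl⟩ := Finset.mem_filter.1 hu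
    exact Finset.mem_filter.2 ⟨hZ _ hb _ hu1, b * c, mul_mem hb hc, by rw [mul_smul]⟩
  · rw [hsum, hg M hMA hMp _ hMz ?_ a ha haM, hpz]
    intro b hb
    rw [hpz, smul_comm, hwA b hb]

/-- B1: orbit sums -/
theorem NGood.sum_eq {p : ℕ} [Fact p.Prime] [Finite G] {A : Subgroup G} (hA : IsPGroup p A) (hg : NGood p D A)
    (Z : Finset Ω) (hZ : ∀ a ∈ A, ∀ y ∈ Z, a • y ∈ Z) (hfix : ∀ y ∈ Z, ¬ A ≤ stabilizer G y)
    (f : Ω → D) (hf : ∀ a ∈ A, ∀ y ∈ Z, f (a • y) = a • f y) (w : D) (hw : ∀ y ∈ Z, p • f y = w)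
    (hwA : ∀ a ∈ A, a • w = w) : ∃ m : ℕ, Z.card = p * m ∧ ∑ y ∈ Z, f y = m • w := by
  classical
  induction hn : Z.card using Nat.strong_induction_on generalizing Z with
  | _ n ih =>
    rcases Z.eq_empty_or_nonempty with rfl | ⟨y, hy⟩
    · exact ⟨0, by rw [← hn]; simp, by simp⟩
    · obtain ⟨O, hOZ, hyO, hOA, m, hm, hs⟩ := orbit_sum hA hg Z hZ hy (hfix y hy) f hf w hw hwA
      have hlt : (Z \ O).card < n := by
        rw [← hn]
        refine Finset.card_lt_card ⟨Finset.sdiff_subset, fun h => ?_⟩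
        exact (Finset.mem_sdiff.1 (h hy)).2 hyO
      obtain ⟨m', hm', hs'⟩ := ih _ hlt (Z \ O) (by
          intro a ha u hu
          rw [Finset.mem_sdiff] at hu ⊢
          refine ⟨hZ a ha u hu.1, fun h => hu.2 ?_⟩
          have := hOA a⁻¹ (inv_mem ha) _ h
          rwa [inv_smul_smul] at this)
        (fun u hu => hfix u (Finset.mem_sdiff.1 hu).1) (fun a ha u hu => hf a ha u (Finset.mem_sdiff.1 hu).1)
        (fun u hu => hw u (Finset.mem_sdiff.1 hu).1) rfl
      refine ⟨m' + m, ?_, ?_⟩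
      · rw [← hn, ← Finset.card_sdiff_add_card_eq_card hOZ, hm', hm, mul_add]
      · rw [← Finset.sum_sdiff hOZ, hs', hs, add_smul]

/-- an orbit of points with Sylow stabilizers -/
theorem exists_orbit {p : ℕ} [Fact p.Prime] [Finite G] [Finite Ω] (hΩ : PSet p G Ω) :
    ∃ Ω₀ : Finset Ω, (∀ (g : G), ∀ y ∈ Ω₀, g • y ∈ Ω₀) ∧ (∀ y ∈ Ω₀, ∀ z ∈ Ω₀, ∃ g : G, g • y = z) ∧
      (∀ y ∈ Ω₀, ∃ S : Sylow p G, (S : Subgroup G) = stabilizer G y) ∧ ¬ p ∣ Ω₀.card ∧ Ω₀.Nonempty := by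
  classical
  obtain ⟨S⟩ : Nonempty (Sylow p G) := inferInstance
  obtain ⟨x, hx⟩ := hΩ.exists_fix S S.2
  have hS : stabilizer G x = S := S.is_maximal' (hΩ.pgroup x) hx
  refine ⟨(Set.toFinite (orbit G x)).toFinset, ?_, ?_, ?_, ?_, ?_⟩
  · intro g y hy
    rw [Set.Finite.mem_toFinset] at hy ⊢
    obtain ⟨h, rfl⟩ := hy
    exact ⟨g * h, mul_smul g h x⟩
  · intro y hy z hz
    rw [Set.Finite.mem_toFinset] at hy hz
    obtain ⟨h, rfl⟩ := hy
    obtain ⟨k, rfl⟩ := hz
    refine ⟨k * h⁻¹, ?_⟩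
    show (k * h⁻¹) • h • x = k • x
    rw [mul_smul, inv_smul_smul]
  · intro y hy
    rw [Set.Finite.mem_toFinset] at hy
    obtain ⟨h, rfl⟩ := hy
    refine ⟨h • S, ?_⟩
    show _ = stabilizer G (h • x)
    rw [stabilizer_smul_eq_stabilizer_map_conj, hS]
    rfl
  · have h1 := MulAction.index_stabilizer G x
    rw [hS, Set.ncard_eq_toFinset_card _ (Set.toFinite _)] at h1
    rw [← h1]
    exact S.not_dvd_index
  · exact ⟨x, by rw [Set.Finite.mem_toFinset]; exact mem_orbit_self x⟩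

theorem exists_exp {p : ℕ} [Finite D] (hD : IsPTors p D) : ∃ K : ℕ, ∀ d : D, (p ^ K : ℕ) • d = 0 := by
  classical
  have := Fintype.ofFinite D
  choose k hk using hD
  refine ⟨Finset.univ.sup k, fun d => ?_⟩
  have h1 : k d ≤ Finset.univ.sup k := Finset.le_sup (Finset.mem_univ d)
  obtain ⟨j, hj⟩ := Nat.exists_eq_add_of_le h1
  rw [hj, pow_add, mul_comm, mul_smul, hk, smul_zero]

theorem H0_step {p : ℕ} [Fact p.Prime] [Finite G] [Finite Ω] [Finite D] (hΩ : PSet p G Ω) (hD : IsPTors p D)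
    (𝒜 : Set (Subgroup G)) (hi : IsInv 𝒜) (hp : ∀ A ∈ 𝒜, IsPGroup p A) (hg : ∀ A ∈ 𝒜, NGood p D A)
    (f : Ω → D) (hf : ∀ (g : G) y, f (g • y) = g • f y)
    (hloc : ∀ x y, (∃ A ∈ 𝒜, A ≤ stabilizer G x ⊓ stabilizer G y) → f x = f y) (w : D) (hw : ∀ g : G, g • w = w)
    (hpf : ∀ x, (∃ A ∈ 𝒜, A ≤ stabilizer G x) → p • f x = w) :
    ∃ d : D, (∀ g : G, g • d = d) ∧ ∀ x, (∃ A ∈ 𝒜, A ≤ stabilizer G x) → f x = d := by
  classical
  obtain ⟨Ω₀, h1, -, h3, h4, -⟩ := exists_orbit hΩ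
  obtain ⟨K, hK⟩ := exists_exp hD
  have hs : ∀ x, (∃ A ∈ 𝒜, A ≤ stabilizer G x) → ∑ y ∈ Ω₀, f y = Ω₀.card • f x := by
    rintro x ⟨A, hA, hAx⟩
    have hQ : ∀ y ∈ Ω₀, ∃ B ∈ 𝒜, B ≤ stabilizer G y := by
      intro y hy
      obtain ⟨S, hS⟩ := h3 y hy
      obtain ⟨P, hP⟩ := (hp A hA).exists_le_sylow
      obtain ⟨g, hgS⟩ := MulAction.exists_smul_eq G P S
      refine ⟨cj g A, hi g A hA, ?_⟩
      rw [← hS, ← hgS]
      exact Subgroup.map_mono hP
    rw [← Finset.sum_filter_add_sum_filter_not Ω₀ (fun y => A ≤ stabilizer G y)]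
    have e1 : ∑ y ∈ Ω₀.filter (fun y => A ≤ stabilizer G y), f y = (Ω₀.filter (fun y => A ≤ stabilizer G y)).card • f x := by
      rw [Finset.sum_congr rfl fun y hy => (hloc x y ⟨A, hA, le_inf hAx (Finset.mem_filter.1 hy).2⟩).symm, Finset.sum_const]
    obtain ⟨m, hm, hsm⟩ := NGood.sum_eq (hp A hA) (hg A hA) (Ω₀.filter (fun y => ¬ A ≤ stabilizer G y)) (by
        intro a ha y hy
        obtain ⟨hy1, hy2⟩ := Finset.mem_filter.1 hy
        refine Finset.mem_filter.2 ⟨h1 a y hy1, fun h => hy2 ?_⟩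
        intro b hb
        have h5 := h (mul_mem (mul_mem ha hb) (inv_mem ha))
        rw [mem_stabilizer_iff, mul_smul, inv_smul_smul, mul_smul] at h5
        rw [mem_stabilizer_iff]
        exact smul_left_cancel a h5)
      (fun y hy => (Finset.mem_filter.1 hy).2) f (fun a _ y _ => hf a y) w
      (fun y hy => hpf y (hQ y (Finset.mem_filter.1 hy).1)) (fun a _ => hw a)
    rw [e1, hsm, ← hpf x ⟨A, hA, hAx⟩, smul_smul, mul_comm m p, ← hm, ← add_smul]
    congr 1
    exact Finset.card_filter_add_card_filter_not _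
  have hcop : IsCoprime (Ω₀.card : ℤ) ((p ^ K : ℕ) : ℤ) := by
    rw [Nat.isCoprime_iff_coprime]
    exact Nat.Coprime.pow_right K ((Nat.Prime.coprime_iff_not_dvd Fact.out).2 h4).symm
  obtain ⟨a, b, hab⟩ := hcop
  refine ⟨a • ∑ y ∈ Ω₀, f y, ?_, ?_⟩
  · intro g
    rw [smul_comm, Finset.smul_sum]
    congr 1
    rw [Finset.sum_congr rfl fun y _ => (hf g y).symm]
    refine Finset.sum_nbij (fun u => g • u) (fun u hu => h1 g u hu) ?_ ?_ (fun _ _ => rfl)
    · intro u _ u' _ h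
      exact smul_left_cancel g h
    · intro u hu
      refine ⟨g⁻¹ • u, h1 _ _ hu, ?_⟩
      dsimp only
      rw [smul_inv_smul]
  · intro x hx
    rw [hs x hx]
    calc f x = (a * (Ω₀.card : ℤ) + b * ((p ^ K : ℕ) : ℤ)) • f x := by rw [hab, one_smul]
      _ = a • (Ω₀.card • f x) := by
        rw [add_smul, mul_smul, mul_smul, natCast_zsmul, natCast_zsmul, hK, smul_zero, add_zero]

/-- B2: degree zero -/
theorem H0_Q {p : ℕ} [Fact p.Prime] [Finite G] [Finite Ω] [Finite D] (hΩ : PSet p G Ω) (hD : IsPTors p D)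
    (𝒜 : Set (Subgroup G)) (hi : IsInv 𝒜) (hp : ∀ A ∈ 𝒜, IsPGroup p A) (hg : ∀ A ∈ 𝒜, NGood p D A)
    (v : Ω → D) (hv : ∀ (g : G) y, v (g • y) = g • v y)
    (hloc : ∀ x y, (∃ A ∈ 𝒜, A ≤ stabilizer G x ⊓ stabilizer G y) → v x = v y) :
    ∃ d : D, (∀ g : G, g • d = d) ∧ ∀ x, (∃ A ∈ 𝒜, A ≤ stabilizer G x) → v x = d := by
  obtain ⟨K, hK⟩ := exists_exp hD
  have key : ∀ n : ℕ, ∀ f : Ω → D, (∀ (g : G) y, f (g • y) = g • f y) →
      (∀ x y, (∃ A ∈ 𝒜, A ≤ stabilizer G x ⊓ stabilizer G y) → f x = f y) → (∀ x, (p ^ n : ℕ) • f x = 0) →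
      ∃ d : D, (∀ g : G, g • d = d) ∧ ∀ x, (∃ A ∈ 𝒜, A ≤ stabilizer G x) → f x = d := by
    intro n
    induction n with
    | zero =>
      intro f _ _ h0
      refine ⟨0, fun g => smul_zero g, fun x _ => ?_⟩
      have := h0 x
      rwa [pow_zero, one_smul] at this
    | succ n ih =>
      intro f hf hl h0
      obtain ⟨w, hw, hw'⟩ := ih (fun x => p • f x) (fun g y => by
          show p • f (g • y) = g • p • f y
          rw [hf, smul_comm]) (fun x y hxy => by
          show p • f x = p • f y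
          rw [hl x y hxy]) (fun x => by
          show (p ^ n : ℕ) • p • f x = 0
          rw [smul_smul, ← pow_succ]
          exact h0 x)
      exact H0_step hΩ hD 𝒜 hi hp hg f hf hl w hw hw'
  exact key K v hv hloc fun x => hK _

end

end Cfsg.Agent.H481.Lim
end

-- part: H309/Lim/Norm
section
/-!
# The norm theorem (task B3 of S5242, hub helper539)

For a family `𝒜` of norm-good `p`-subgroups: `H^{n+1} = 0` on the subgroups containing a member of `𝒜` (`van_Q`) and on the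
subgroups containing no member of `𝒜` (`van_R0`).
-/

set_option autoImplicit false
set_option linter.unusedSectionVars false

namespace Cfsg.Agent.H309.Lim

open MulAction Cfsg.Agent.H539.Lim
open Cfsg.Agent.H223.Lim (van_two2 van_two2')
open Cfsg.Agent.H842.Lim (van_all)
open Cfsg.Agent.H95.Lim (van_of_local pset_fixPt)
open Cfsg.Agent.H481.Lim (H0_Q)

universe u v w

section basics

variable {G : Type u} [Group G] {Ω : Type v} [MulAction G Ω] {D : Type w} [AddCommGroup D]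
  [DistribMulAction G D]

/-- only the stabilizers of the tuples matter -/
theorem van_congr {V V' : Set (Subgroup G)} (h : ∀ (k : ℕ) (x : Fin (k + 1) → Ω), st G x ∈ V ↔ st G x ∈ V')
    {n : ℕ} (hv : Van G Ω D V' n) : Van G Ω D V n := by
  cases n with
  | zero =>
    intro c hc hcc
    exact hv c ⟨hc.smul, fun x hx => hc.supp x fun h1 => hx ((h _ x).mp h1)⟩
      fun x hx => hcc x ((h _ x).mpr hx)
  | succ n =>
    intro c hc hcc
    obtain ⟨b, hb, hb'⟩ := hv c ⟨hc.smul, fun x hx => hc.supp x fun h1 => hx ((h _ x).mp h1)⟩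
      fun x hx => hcc x ((h _ x).mpr hx)
    exact ⟨b, ⟨hb.smul, fun x hx => hb.supp x fun h1 => hx ((h _ x).mpr h1)⟩, fun x hx => hb' x ((h _ x).mp hx)⟩

theorem van_of_isEmpty [IsEmpty Ω] {V : Set (Subgroup G)} (n : ℕ) : Van G Ω D V n := by
  cases n with
  | zero =>
    intro c _ _ x
    exact isEmptyElim (x 0)
  | succ n =>
    intro c _ _
    refine ⟨fun _ => 0, ⟨fun g x => (smul_zero g).symm, fun _ _ => rfl⟩, fun x _ => ?_⟩
    exact isEmptyElim (x 0)

/-- no tuple has its stabilizer in `V` -/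
theorem van_of_forall_not {V : Set (Subgroup G)} (h : ∀ (k : ℕ) (x : Fin (k + 1) → Ω), st G x ∉ V) (n : ℕ) :
    Van G Ω D V n := by
  cases n with
  | zero =>
    intro c hc _ x
    exact hc.supp x (h _ x)
  | succ n =>
    intro c _ _
    exact ⟨fun _ => 0, ⟨fun g x => (smul_zero g).symm, fun _ _ => rfl⟩, fun x hx => absurd hx (h _ x)⟩

end basics

section JA

variable {G : Type u} [Group G]

/-- the subgroup generated by the members of `𝒜` contained in `P` -/
def JA (𝒜 : Set (Subgroup G)) (P : Subgroup G) : Subgroup G := sSup {A | A ∈ 𝒜 ∧ A ≤ P}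

variable {𝒜 : Set (Subgroup G)}

theorem le_JA {A P : Subgroup G} (h : A ∈ 𝒜) (hA : A ≤ P) : A ≤ JA 𝒜 P := le_sSup ⟨h, hA⟩

theorem JA_le {P : Subgroup G} : JA 𝒜 P ≤ P := sSup_le fun _ h => h.2

theorem JA_mono {P Q : Subgroup G} (h : P ≤ Q) : JA 𝒜 P ≤ JA 𝒜 Q :=
  sSup_le fun _ hA => le_JA hA.1 (hA.2.trans h)

theorem JA_idem (P : Subgroup G) : JA 𝒜 (JA 𝒜 P) = JA 𝒜 P :=
  le_antisymm JA_le (sSup_le fun _ hA => le_JA hA.1 (le_JA hA.1 hA.2))

theorem cj_cj_inv (g : G) (P : Subgroup G) : cj g (cj g⁻¹ P) = P := by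
  ext x
  simp only [Subgroup.mem_map]
  constructor
  · rintro ⟨y, ⟨z, hz, rfl⟩, rfl⟩
    simpa [mul_assoc] using hz
  · intro hx
    exact ⟨g⁻¹ * x * g, ⟨x, hx, by simp⟩, by simp [mul_assoc]⟩

theorem cj_mono {g : G} {P Q : Subgroup G} (h : P ≤ Q) : cj g P ≤ cj g Q := Subgroup.map_mono h

theorem JA_cj_le (hi : IsInv 𝒜) (g : G) (P : Subgroup G) : cj g (JA 𝒜 P) ≤ JA 𝒜 (cj g P) := by
  rw [cj, Subgroup.map_le_iff_le_comap]
  refine sSup_le fun A hA => ?_
  rw [← Subgroup.map_le_iff_le_comap]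
  exact le_JA (hi g A hA.1) (cj_mono hA.2)

theorem JA_cj (hi : IsInv 𝒜) (g : G) (P : Subgroup G) : JA 𝒜 (cj g P) = cj g (JA 𝒜 P) := by
  refine le_antisymm ?_ (JA_cj_le hi g P)
  have h1 := JA_cj_le hi g⁻¹ (cj g P)
  have h2 : cj g⁻¹ (cj g P) = P := by
    have := cj_cj_inv g⁻¹ P
    rwa [inv_inv] at this
  rw [h2] at h1
  have h3 := cj_mono (g := g) h1
  rwa [cj_cj_inv] at h3

end JA

section ngood

variable {G : Type u} [Group G] {D : Type w} [AddCommGroup D] [DistribMulAction G D]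

theorem ngood_of_map {p : ℕ} {N : Subgroup G} {A : Subgroup ↥N} (h : NGood p D (A.map N.subtype)) :
    NGood p D A := by
  intro M hM hr z hz hpz a ha haM
  have h1 := h (M.map N.subtype) (Subgroup.map_mono hM)
    (by rw [Subgroup.relIndex_map_map_of_injective _ _ N.subtype_injective]; exact hr) z
    (by
      rintro _ ⟨m, hm, rfl⟩
      exact hz m hm)
    (by
      rintro _ ⟨m, hm, rfl⟩
      exact hpz m hm)
    (a : G) ⟨a, ha, rfl⟩ (by
      rintro ⟨b, hb, hab⟩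
      apply haM
      have : b = a := Subtype.ext hab
      rwa [← this])
  exact h1

end ngood

/-- the kernel grows under localization -/
theorem index_lt {G : Type u} [Group G] [Finite G] {Ω : Type v} [MulAction G Ω] {J : Subgroup G}
    (hJ : ¬ J ≤ (toPermHom G Ω).ker) :
    (toPermHom ↥(Nz J) (FixPt J Ω)).ker.index < (toPermHom G Ω).ker.index := by
  set K := (toPermHom G Ω).ker with hK
  have h1 : K.relIndex (Nz J) ∣ K.index := Subgroup.relIndex_dvd_index_of_normal K (Nz J)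
  have h2 : K.relIndex (Nz J) ≤ K.index := Nat.le_of_dvd
    (Nat.pos_of_ne_zero Subgroup.FiniteIndex.index_ne_zero) h1
  refine lt_of_lt_of_le ?_ h2
  refine Subgroup.index_strictAnti ?_
  constructor
  · intro n hn
    have h3 : (n : G) ∈ K := hn
    rw [hK, MonoidHom.mem_ker] at h3
    rw [MonoidHom.mem_ker]
    ext y
    refine Subtype.ext ?_
    have := congrArg (fun f => f y.1) h3
    exact this
  · intro h3
    apply hJ
    intro j hj
    have hjN : j ∈ Nz J := Subgroup.le_normalizer hj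
    have h4 : (⟨j, hjN⟩ : ↥(Nz J)) ∈ (toPermHom ↥(Nz J) (FixPt J Ω)).ker := by
      rw [MonoidHom.mem_ker]
      ext y
      exact Subtype.ext (y.2 hj)
    exact h3 h4

section main

variable {p : ℕ} [hp : Fact p.Prime] {D : Type w} [AddCommGroup D] [Finite D]

/-- the degree zero step -/
theorem van_R0_of_Q {G : Type u} [Group G] [Finite G] {Ω : Type v} [MulAction G Ω] [Finite Ω] [DistribMulAction G D]
    (hΩ : PSet p G Ω) (hD : IsPTors p D) (𝒜 : Set (Subgroup G)) (hi : IsInv 𝒜) (hp : ∀ A ∈ 𝒜, IsPGroup p A)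
    (hg : ∀ A ∈ 𝒜, NGood p D A) (hQ : ∀ n : ℕ, Van G Ω D {P | ∃ A ∈ 𝒜, A ≤ P} (n + 1)) (n : ℕ) :
    Van G Ω D {P | ∀ A ∈ 𝒜, ¬ A ≤ P} (n + 1) := by
  have hU : IsUpperSet {P : Subgroup G | ∃ A ∈ 𝒜, A ≤ P} := by
    rintro P Q hPQ ⟨A, hA, hAP⟩
    exact ⟨A, hA, hAP.trans hPQ⟩
  have hUi : IsInv {P : Subgroup G | ∃ A ∈ 𝒜, A ≤ P} := by
    rintro g P ⟨A, hA, hAP⟩
    exact ⟨cj g A, hi g A hA, cj_mono hAP⟩
  have hVi : IsInv (Set.univ : Set (Subgroup G)) := fun _ _ _ => trivial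
  have he : {P : Subgroup G | ∀ A ∈ 𝒜, ¬ A ≤ P} = Set.univ \ {P | ∃ A ∈ 𝒜, A ≤ P} := by
    ext P
    simp
  rw [he]
  cases n with
  | zero =>
    refine van_two2' Set.ordConnected_univ hVi hU hUi (van_all hΩ hD (fun _ _ => trivial) 0) fun b hb hbc => ?_
    obtain ⟨d, hd, hd'⟩ := H0_Q hΩ hD 𝒜 hi hp hg (fun y => b fun _ => y) (fun g y => hb.smul g fun _ => y)
      (by
        rintro x y ⟨A, hA, hAx⟩
        have h1 := hbc ![x, y] (by
          refine ⟨trivial, A, hA, fun a ha => ?_⟩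
          rw [mem_stabilizer_iff]
          have h2 := hAx ha
          rw [Subgroup.mem_inf, mem_stabilizer_iff, mem_stabilizer_iff] at h2
          funext i
          fin_cases i
          · exact h2.1
          · exact h2.2)
        rw [dd, Fin.sum_univ_two] at h1
        simp only [Fin.val_zero, pow_zero, one_smul, Fin.val_one, pow_one, neg_smul] at h1
        have h3 : (fun j => (![x, y] : Fin 2 → Ω) ((0 : Fin 2).succAbove j)) = fun _ => y := by
          funext j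
          fin_cases j
          rfl
        have h4 : (fun j => (![x, y] : Fin 2 → Ω) ((1 : Fin 2).succAbove j)) = fun _ => x := by
          funext j
          fin_cases j
          rfl
        rw [h3, h4] at h1
        exact (sub_eq_zero.mp (by rwa [sub_eq_add_neg])).symm)
    refine ⟨fun _ => d, ⟨fun g x => (hd g).symm, fun x hx => absurd trivial hx⟩, ?_, ?_⟩
    · intro x _
      rw [dd, Fin.sum_univ_two]
      simp
    · rintro x ⟨A, hA, hAx⟩
      have h1 : x = fun _ => x 0 := by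
        funext j
        fin_cases j
        rfl
      have h2 := hd' (x 0) ⟨A, hA, fun a ha => by
        have h3 := hAx ha
        rw [mem_stabilizer_iff] at h3 ⊢
        exact congrFun h3 0⟩
      rw [h1]
      exact h2.symm
  | succ n =>
    refine van_two2 Set.ordConnected_univ hVi hU hUi (van_all hΩ hD (fun _ _ => trivial) _) ?_
    rw [Set.univ_inter]
    exact hQ n

theorem norm_aux (hD : IsPTors p D) : ∀ (N : ℕ) (G : Type u) [Group G] [Finite G] (Ω : Type v) [MulAction G Ω] [Finite Ω]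
    [DistribMulAction G D], PSet p G Ω → (toPermHom G Ω).ker.index = N → ∀ (𝒜 : Set (Subgroup G)), IsInv 𝒜 →
    (∀ A ∈ 𝒜, IsPGroup p A) → (∀ A ∈ 𝒜, NGood p D A) → ∀ n : ℕ,
    Van G Ω D {P | ∀ A ∈ 𝒜, ¬ A ≤ P} (n + 1) ∧ Van G Ω D {P | ∃ A ∈ 𝒜, A ≤ P} (n + 1) := by
  intro N
  induction N using Nat.strong_induction_on with
  | _ N ih =>
  intro G _ _ Ω _ _ _ hΩ hN 𝒜 hi hpA hg
  by_cases hker : ∃ A ∈ 𝒜, A ≤ (toPermHom G Ω).ker
  · -- a member of `𝒜` fixes all points
    obtain ⟨A, hA, hAK⟩ := hker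
    have hst : ∀ (k : ℕ) (x : Fin (k + 1) → Ω), A ≤ st G x := by
      intro k x a ha
      rw [mem_stabilizer_iff]
      funext i
      have h1 := hAK ha
      rw [MonoidHom.mem_ker] at h1
      have := congrArg (fun f => f (x i)) h1
      exact this
    refine fun n => ⟨van_of_forall_not (V := {P | ∀ A ∈ 𝒜, ¬ A ≤ P}) (fun k x h => h A hA (hst k x)) _, ?_⟩
    refine van_congr (V := {P | ∃ A ∈ 𝒜, A ≤ P}) (V' := Set.univ)
      (fun k x => ⟨fun _ => trivial, fun _ => ⟨A, hA, hst k x⟩⟩) ?_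
    exact van_all hΩ hD (fun _ _ => trivial) n
  · push Not at hker
    have hQ : ∀ n : ℕ, Van G Ω D {P | ∃ A ∈ 𝒜, A ≤ P} (n + 1) := by
      intro n
      have hup : IsUpperSet {P : Subgroup G | ∃ A ∈ 𝒜, A ≤ P} := by
        rintro P Q hPQ ⟨A, hA, hAP⟩
        exact ⟨A, hA, hAP.trans hPQ⟩
      have hUi : IsInv {P : Subgroup G | ∃ A ∈ 𝒜, A ≤ P} := by
        rintro g P ⟨A, hA, hAP⟩
        exact ⟨cj g A, hi g A hA, cj_mono hAP⟩
      have hcard : ∀ (g : G) (P : Subgroup G), Nat.card (JA 𝒜 (cj g P)) = Nat.card (JA 𝒜 P) := by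
        intro g P
        rw [JA_cj hi, cj]
        exact Subgroup.card_map_of_injective (MulAut.conj g).injective
      refine van_of_filt hup.ordConnected hUi (fun P => Nat.card (JA 𝒜 P)) (fun P _ Q _ hPQ =>
        Subgroup.card_le_of_le (JA_mono hPQ)) (fun g P _ => hcard g P) (n + 1) fun i => ?_
      refine van_of_local hΩ (V := {P | P ∈ {P : Subgroup G | ∃ A ∈ 𝒜, A ≤ P} ∧ Nat.card (JA 𝒜 P) = i})
        ?_ (JA 𝒜) (fun P _ => JA_le) (fun g P _ => JA_cj hi g P) ?_ (n + 1) ?_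
      · rintro g P ⟨h1, h2⟩
        exact ⟨hUi g P h1, (hcard g P).trans h2⟩
      · rintro P ⟨-, h1⟩ Q ⟨-, h2⟩ hPQ
        exact Subgroup.eq_of_le_of_card_ge (JA_mono hPQ) (h2.trans h1.symm).le
      · rintro P ⟨⟨A₀, hA₀, hA₀P⟩, hPi⟩
        set J := JA 𝒜 P with hJ
        have hA₀J : A₀ ≤ J := le_JA hA₀ hA₀P
        have hJK : ¬ J ≤ (toPermHom G Ω).ker := fun h => hker A₀ hA₀ (hA₀J.trans h)
        rcases isEmpty_or_nonempty (FixPt J Ω) with hemp | ⟨⟨y⟩⟩
        · exact van_of_isEmpty _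
        have hJp : IsPGroup p J := (hΩ.pgroup y.1).to_le y.2
        set N' := Nz J with hN'
        have hJN : J ≤ N' := Subgroup.le_normalizer
        let 𝒜' : Set (Subgroup ↥N') := {A' | A'.map N'.subtype ∈ 𝒜 ∧ ¬ A'.map N'.subtype ≤ J}
        have hi' : IsInv 𝒜' := by
          rintro n' A' ⟨h1, h2⟩
          have h3 : (cj n' A').map N'.subtype = cj (n' : G) (A'.map N'.subtype) := by
            ext x
            simp only [Subgroup.mem_map]
            constructor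
            · rintro ⟨_, ⟨z, hz, rfl⟩, rfl⟩
              exact ⟨z, ⟨z, hz, rfl⟩, rfl⟩
            · rintro ⟨_, ⟨z, hz, rfl⟩, rfl⟩
              exact ⟨_, ⟨z, hz, rfl⟩, rfl⟩
          refine ⟨by rw [h3]; exact hi _ _ h1, fun h4 => h2 ?_⟩
          rw [h3] at h4
          intro a ha
          have h5 : (n' : G) * a * (n' : G)⁻¹ ∈ J := h4 ⟨a, ha, rfl⟩
          exact (Subgroup.mem_normalizer_iff.mp n'.2 a).mpr h5
        have hp' : ∀ A' ∈ 𝒜', IsPGroup p A' := by
          rintro A' ⟨h1, -⟩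
          exact (hpA _ h1).of_equiv (A'.equivMapOfInjective N'.subtype N'.subtype_injective).symm
        have hg' : ∀ A' ∈ 𝒜', NGood p D A' := by
          rintro A' ⟨h1, -⟩
          exact ngood_of_map (hg _ h1)
        have hlt := index_lt (Ω := Ω) hJK
        rw [hN] at hlt
        have h6 := (ih _ hlt ↥N' (FixPt J Ω) (pset_fixPt hΩ J hJp) rfl 𝒜' hi' hp' hg' n).1
        refine van_congr (fun k x => ?_) h6
        have hJst : J ≤ (st ↥N' x).map N'.subtype := by
          intro j hj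
          refine ⟨⟨j, hJN hj⟩, ?_, rfl⟩
          rw [SetLike.mem_coe, mem_stabilizer_iff]
          funext i
          exact Subtype.ext ((x i).2 hj)
        constructor
        · rintro ⟨-, h7⟩ A' ⟨h8, h9⟩ h10
          exact h9 ((le_JA h8 (Subgroup.map_mono h10)).trans h7.le)
        · intro h7
          have h8 : JA 𝒜 ((st ↥N' x).map N'.subtype) = J := by
            apply le_antisymm
            · refine sSup_le ?_
              rintro A ⟨hA, hAx⟩
              by_contra hAJ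
              have hAN : A ≤ N' := hAx.trans (Subgroup.map_subtype_le _)
              have hm : (A.subgroupOf N').map N'.subtype = A := by
                rw [Subgroup.subgroupOf_map_subtype, inf_eq_left.mpr hAN]
              refine h7 (A.subgroupOf N') ⟨by rw [hm]; exact hA, by rw [hm]; exact hAJ⟩ ?_
              intro a ha
              obtain ⟨b, hb, hba⟩ := hAx (show (a : G) ∈ A from ha)
              have : b = a := Subtype.ext hba
              rwa [← this]
            · exact (JA_idem (𝒜 := 𝒜) P).ge.trans (JA_mono (𝒜 := 𝒜) hJst)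
          exact ⟨⟨⟨A₀, hA₀, hA₀J.trans hJst⟩, by rw [h8]; exact hPi⟩, h8⟩
    exact fun n => ⟨van_R0_of_Q hΩ hD 𝒜 hi hpA hg hQ n, hQ n⟩

end main

section final

variable {G : Type u} [Group G] {Ω : Type v} [MulAction G Ω] {D : Type w} [AddCommGroup D]
  [DistribMulAction G D]

/-- **B3**: the norm theorem -/
theorem van_R0 {p : ℕ} [Fact p.Prime] [Finite G] [Finite Ω] [Finite D] (hΩ : PSet p G Ω) (hD : IsPTors p D)
    (𝒜 : Set (Subgroup G)) (hi : IsInv 𝒜) (hp : ∀ A ∈ 𝒜, IsPGroup p A) (hg : ∀ A ∈ 𝒜, NGood p D A) (n : ℕ) :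
    Van G Ω D {P | ∀ A ∈ 𝒜, ¬ A ≤ P} (n + 1) :=
  (norm_aux hD _ G Ω hΩ rfl 𝒜 hi hp hg n).1

theorem van_Q {p : ℕ} [Fact p.Prime] [Finite G] [Finite Ω] [Finite D] (hΩ : PSet p G Ω) (hD : IsPTors p D)
    (𝒜 : Set (Subgroup G)) (hi : IsInv 𝒜) (hp : ∀ A ∈ 𝒜, IsPGroup p A) (hg : ∀ A ∈ 𝒜, NGood p D A) (n : ℕ) :
    Van G Ω D {P | ∃ A ∈ 𝒜, A ≤ P} (n + 1) :=
  (norm_aux hD _ G Ω hΩ rfl 𝒜 hi hp hg n).2

end final

end Cfsg.Agent.H309.Lim
end
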